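import Mathlib
import Groth.Agent.VarietyLib.DimOne

/-!
# Simultaneous factorisation of nonzerodivisors in a finite extension of a one-dimensional local ring
-/

set_option autoImplicit false

universe u

open IsLocalRing

namespace Groth.Agent.CycTameLib

/-- factorisation into finitely many pairwise comaximal primes in a semilocal principal ideal domain -/
theorem exists_prime_family (S : Type u) [CommRing S] [IsDomain S] [IsPrincipalIdealRing S]
    [Finite (MaximalSpectrum S)] :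
    ∃ (κ : Type u) (_ : Fintype κ) (p : κ → S), (∀ j, p j ≠ 0) ∧ (∀ j k, j ≠ k → IsCoprime (p j) (p k)) ∧
      ∀ y : S, y ≠ 0 → ∃ e : κ → ℕ, Associated (∏ j, p j ^ e j) y := by
  classical
  by_cases hf : IsField S
  · letI := hf.toField
    exact ⟨PEmpty.{u + 1}, inferInstance, fun j ↦ j.elim, fun j ↦ j.elim, fun j ↦ j.elim, fun y hy ↦ ⟨fun j ↦ j.elim, by
      rw [Finset.prod_of_isEmpty]
      exact (associated_one_iff_isUnit.mpr (IsUnit.mk0 y hy)).symm⟩⟩
  have hne : ∀ q : MaximalSpectrum S, q.asIdeal ≠ ⊥ := fun q h ↦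
    hf (Ring.isField_iff_maximal_bot.mpr (h ▸ q.isMaximal))
  have hprin : ∀ q : MaximalSpectrum S, ∃ g : S, q.asIdeal = Ideal.span {g} := fun q ↦
    (IsPrincipalIdealRing.principal q.asIdeal).principal
  choose g hg using hprin
  refine ⟨MaximalSpectrum S, Fintype.ofFinite _, g, fun q h ↦ hne q (by rw [hg q, h, Ideal.span_singleton_eq_bot]),
    fun j k hjk ↦ ?_, fun y ↦ ?_⟩
  · rw [← Ideal.isCoprime_span_singleton_iff, ← hg, ← hg, Ideal.isCoprime_iff_sup_eq]
    exact j.isMaximal.coprime_of_ne k.isMaximal fun h ↦ hjk (MaximalSpectrum.ext h)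
  · induction y using UniqueFactorizationMonoid.induction_on_prime with
    | h₁ => exact fun h ↦ absurd rfl h
    | h₂ v hv => exact fun _ ↦ ⟨0, by simpa using (associated_one_iff_isUnit.mpr hv).symm⟩
    | h₃ v p hv hp ih =>
      intro _
      obtain ⟨e, he⟩ := ih hv
      have hmax : (Ideal.span {p}).IsMaximal :=
        Ideal.IsPrime.isMaximal ((Ideal.span_singleton_prime hp.ne_zero).mpr hp)
          (by simpa using hp.ne_zero)
      have hass : Associated (g ⟨_, hmax⟩) p := by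
        rw [← Ideal.span_singleton_eq_span_singleton, ← hg]
      refine ⟨(e + Pi.single ⟨_, hmax⟩ 1 : MaximalSpectrum S → ℕ), ?_⟩
      letI := Fintype.ofFinite (MaximalSpectrum S)
      have key : ∏ j, g j ^ (e + Pi.single (⟨_, hmax⟩ : MaximalSpectrum S) 1 : MaximalSpectrum S → ℕ) j =
          g ⟨_, hmax⟩ * ∏ j, g j ^ e j := by
        simp only [pow_add, Pi.add_apply, Finset.prod_mul_distrib]
        rw [mul_comm, show ∏ j, g j ^ (Pi.single (⟨_, hmax⟩ : MaximalSpectrum S) 1 : MaximalSpectrum S → ℕ) j =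
          g ⟨_, hmax⟩ from by
            rw [Finset.prod_eq_single ⟨_, hmax⟩ (fun j _ hj ↦ by rw [Pi.single_eq_of_ne hj, pow_zero])
              (fun h ↦ absurd (Finset.mem_univ _) h), Pi.single_eq_same, pow_one]]
      rw [key]
      exact hass.mul_mul he

variable {R : Type u} [CommRing R] [IsNoetherianRing R] [IsLocalRing R]

/-- Nonzerodivisors of a one-dimensional Noetherian local ring become products of powers of finitely many pairwise
comaximal elements in a finite extension inside the total ring of fractions. -/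
theorem exists_factorization (hR : ringKrullDim R = 1) {n : ℕ} (a : Fin n → R) (ha : ∀ i, a i ∈ nonZeroDivisors R) :
    ∃ (B : Type u) (_ : CommRing B) (_ : Algebra R B) (κ : Type u) (_ : Fintype κ) (π : κ → B) (u : Fin n → Bˣ)
      (e : Fin n → κ → ℕ),
      Function.Injective (algebraMap R B) ∧ Module.Finite R B ∧
      (∃ N : ℕ, ∀ r ∈ maximalIdeal R ^ N, ∀ b : B, r • b ∈ (algebraMap R B).range) ∧
      (∀ j, π j ∈ nonZeroDivisors B) ∧ (∀ j k, j ≠ k → IsCoprime (π j) (π k)) ∧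
      ∀ i, algebraMap R B (a i) = (u i : B) * ∏ j, π j ^ e i j := by
  classical
  by_cases hall : ∀ i, IsUnit (a i)
  · refine ⟨R, inferInstance, inferInstance, PEmpty.{u + 1}, inferInstance, fun j ↦ j.elim, fun i ↦ (hall i).unit,
      fun _ j ↦ j.elim, fun _ _ h ↦ h, inferInstance, ⟨0, fun r _ b ↦ ⟨r • b, rfl⟩⟩, fun j ↦ j.elim, fun j ↦ j.elim,
      fun i ↦ by simp⟩
  push Not at hall
  obtain ⟨i₀, hi₀⟩ := hall
  obtain ⟨x, hxm, hx⟩ : ∃ x ∈ maximalIdeal R, x ∈ nonZeroDivisors R :=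
    ⟨a i₀, (mem_maximalIdeal _).mpr hi₀, ha i₀⟩
  let L := Localization.Away x
  have hLinj : Function.Injective (algebraMap R L) :=
    IsLocalization.injective L (Submonoid.powers_le.mpr hx)
  haveI : IsNoetherianRing L := IsLocalization.isNoetherianRing (Submonoid.powers x) L inferInstance
  have hxu : IsUnit (algebraMap R L x) := IsLocalization.Away.algebraMap_isUnit x
  haveI : Ring.KrullDimLE 1 R := Ring.krullDimLE_iff.mpr hR.le
  have hprime : ∀ P : Ideal L, P.IsPrime → P.comap (algebraMap R L) ∈ minimalPrimes R ∧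
      x ∉ P.comap (algebraMap R L) := fun P hP ↦ by
    have hxP : x ∉ P.comap (algebraMap R L) := fun h ↦ hP.ne_top (P.eq_top_of_isUnit_mem h hxu)
    refine ⟨?_, hxP⟩
    rcases Ring.krullDimLE_one_iff.mp ‹_› (P.comap (algebraMap R L)) inferInstance with h | h
    · exact h
    · exact absurd (IsLocalRing.eq_maximalIdeal h ▸ hxm) hxP
  haveI : Ring.KrullDimLE 0 L := Ring.krullDimLE_zero_iff.mpr fun P hP ↦ by
    obtain ⟨M, hM, hle⟩ := P.exists_le_maximal hP.ne_top
    have h1 := (hprime M hM.isPrime).1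
    have h2 : P.comap (algebraMap R L) = M.comap (algebraMap R L) :=
      le_antisymm (Ideal.comap_mono hle) (h1.2 ⟨inferInstance, bot_le⟩ (Ideal.comap_mono hle))
    have h3 : P = M := by
      rw [← IsLocalization.map_comap (Submonoid.powers x) L P, ← IsLocalization.map_comap (Submonoid.powers x) L M]; exact congrArg _ h2
    rw [h3]; exact hM
  haveI : IsArtinianRing L := isArtinianRing_iff_isNoetherianRing_krullDimLE_zero.mpr ⟨inferInstance, inferInstance⟩
  -- the residue fields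
  let K : MaximalSpectrum L → Type u := fun M ↦ L ⧸ M.asIdeal
  letI : ∀ M, Field (K M) := fun M ↦ Ideal.Quotient.field M.asIdeal
  let D : ∀ M, Subring (K M) := fun M ↦ ((Ideal.Quotient.mk M.asIdeal).comp (algebraMap R L)).range
  have hDdim : ∀ M, ringKrullDim (D M) = 1 := fun M ↦ by
    obtain ⟨hmin, hxP⟩ := hprime M.asIdeal M.isMaximal.isPrime
    let p := M.asIdeal.comap (algebraMap R L)
    have hker : RingHom.ker ((Ideal.Quotient.mk M.asIdeal).comp (algebraMap R L)) = p := by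
      rw [← RingHom.comap_ker, Ideal.mk_ker]
    rw [← ringKrullDim_eq_of_ringEquiv ((Ideal.quotEquivOfEq hker.symm).trans
      (RingHom.quotientKerEquivRange _))]
    refine le_antisymm ((ringKrullDim_quotient_le p).trans hR.le) ?_
    by_contra hlt
    have hdom : IsDomain (R ⧸ p) := inferInstance
    have h0 : ringKrullDim (R ⧸ p) ≤ 0 := by
      rcases ENat.WithBot.lt_add_one_iff.mp (show ringKrullDim (R ⧸ p) < 0 + 1 by simpa using hlt) with h
      exact h
    haveI : Ring.KrullDimLE 0 (R ⧸ p) := Ring.krullDimLE_iff.mpr h0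
    have hf : IsField (R ⧸ p) := Ring.KrullDimLE.isField_of_isDomain
    exact hxP ((IsLocalRing.eq_maximalIdeal ((Ideal.Quotient.maximal_ideal_iff_isField_quotient p).mpr hf)).ge hxm)
  haveI : ∀ M, IsNoetherianRing (D M) := fun M ↦ inferInstance
  haveI hDfr : ∀ M, IsFractionRing (D M) (K M) := fun M ↦ by
    haveI : FaithfulSMul (D M) (K M) := (faithfulSMul_iff_algebraMap_injective _ _).mpr Subtype.val_injective
    refine IsFractionRing.of_field (D M) (K M) fun z ↦ ?_
    obtain ⟨y, rfl⟩ := Ideal.Quotient.mk_surjective z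
    obtain ⟨⟨r, s⟩, hrs⟩ := IsLocalization.surj (Submonoid.powers x) y
    refine ⟨⟨_, r, rfl⟩, ⟨_, s.1, rfl⟩, eq_div_of_mul_eq ?_ ?_⟩
    · exact ((IsLocalization.map_units L s).map (Ideal.Quotient.mk M.asIdeal)).ne_zero
    · exact (map_mul (Ideal.Quotient.mk M.asIdeal) y (algebraMap R L s.1)).symm.trans (congrArg _ hrs)
  let S : ∀ M, Subalgebra (D M) (K M) := fun M ↦ integralClosure (D M) (K M)
  haveI hDmax : ∀ M, Finite (MaximalSpectrum (D M)) := fun M ↦ by
    haveI : IsLocalRing (D M) := IsLocalRing.of_surjective'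
      ((Ideal.Quotient.mk M.asIdeal).comp (algebraMap R L)).rangeRestrict (RingHom.rangeRestrict_surjective _)
    exact inferInstance
  have hfac : ∀ M, ∃ (κ : Type u) (_ : Fintype κ) (p : κ → S M), (∀ j, p j ≠ 0) ∧
      (∀ j k, j ≠ k → IsCoprime (p j) (p k)) ∧ ∀ y : S M, y ≠ 0 → ∃ e : κ → ℕ, Associated (∏ j, p j ^ e j) y := fun M ↦ by
    haveI : IsDedekindDomain (S M) := VarietyLib.DimOne.isDedekindDomain_integralClosure (D M) (hDdim M)
    haveI := VarietyLib.DimOne.finite_maximalSpectrum_integralClosure (K := K M) (D M) (hDdim M) (hDmax M)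
    haveI : IsPrincipalIdealRing (S M) := IsPrincipalIdealRing.of_finite_maximals
      ((Set.finite_range (fun q : MaximalSpectrum (S M) ↦ q.asIdeal)).subset fun I hI ↦ ⟨⟨I, hI⟩, rfl⟩)
    exact exists_prime_family (S M)
  choose κ hκ p hp0 hpcop hpfac using hfac
  -- lifting to the integral closure inside `L`
  let φ : L →+* ∀ M, K M := Pi.ringHom fun M ↦ Ideal.Quotient.mk M.asIdeal
  have hφsurj : Function.Surjective φ := fun z ↦ by
    obtain ⟨w, hw⟩ := (IsArtinianRing.quotNilradicalEquivPi L).surjective z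
    obtain ⟨v, rfl⟩ := Ideal.Quotient.mk_surjective w
    exact ⟨v, hw⟩
  have hφker : ∀ z : L, φ z = 0 → IsNilpotent z := fun z hz ↦ by
    rw [← mem_nilradical, IsArtinianRing.nilradical_eq_iInf, Submodule.mem_iInf]
    exact fun M ↦ Ideal.Quotient.eq_zero_iff_mem.mp (congrFun hz M)
  have hlift : ∀ z : L, (∀ M, φ z M ∈ S M) → IsIntegral R z := by
    intro z hz
    have h1 : ∀ M, ∃ q : Polynomial R, q.Monic ∧ φ (q.aeval z) M = 0 := fun M ↦ by
      obtain ⟨q, hq, hq0⟩ := hz M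
      have hlifts : q ∈ Polynomial.lifts ((Ideal.Quotient.mk M.asIdeal).comp (algebraMap R L)).rangeRestrict :=
        (Polynomial.lifts_iff_coeff_lifts q).mpr fun k ↦ RingHom.rangeRestrict_surjective _ _
      obtain ⟨q', hq', -, hq'm⟩ := Polynomial.lifts_and_degree_eq_and_monic hlifts hq
      refine ⟨q', hq'm, ?_⟩
      change Ideal.Quotient.mk M.asIdeal (q'.eval₂ (algebraMap R L) z) = 0
      rw [Polynomial.hom_eval₂, ← hq0, ← hq', Polynomial.eval₂_map]
      rfl
    choose q hq hq0 using h1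
    haveI := Fintype.ofFinite (MaximalSpectrum L)
    obtain ⟨N, hN⟩ := hφker ((∏ M, q M).aeval z) (by
      funext M
      rw [map_prod, map_prod, Finset.prod_apply]
      exact Finset.prod_eq_zero (Finset.mem_univ M) (hq0 M))
    exact ⟨(∏ M, q M) ^ N, (Polynomial.monic_prod_of_monic _ _ fun M _ ↦ hq M).pow N, by
      rw [← Polynomial.aeval_def, map_pow, hN]⟩
  let ι := Σ M, κ M
  haveI : Fintype (MaximalSpectrum L) := Fintype.ofFinite _
  letI := hκ
  let T : ι → ∀ M, K M := fun jj ↦ Function.update 1 jj.1 (p jj.1 jj.2 : K jj.1)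
  choose pi hpi using fun jj ↦ hφsurj (T jj)
  have hTmem : ∀ jj M, T jj M ∈ S M := fun jj M ↦ by
    by_cases h : M = jj.1
    · subst h; simp [T]
    · simp [T, Function.update_of_ne h]
  have hTne : ∀ jj M, T jj M ≠ 0 := fun jj M ↦ by
    by_cases h : M = jj.1
    · subst h; simpa [T] using fun h ↦ hp0 _ _ (Subtype.ext h)
    · simp [T, Function.update_of_ne h]
  have hunitL : ∀ z : L, (∀ M, φ z M ≠ 0) → IsUnit z := fun z hz ↦ by
    by_contra hu
    obtain ⟨M, hM, hle⟩ := Ideal.exists_le_maximal _ (fun h ↦ hu (Ideal.span_singleton_eq_top.mp h))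
    exact hz ⟨M, hM⟩ (Ideal.Quotient.eq_zero_iff_mem.mpr (hle (Ideal.mem_span_singleton_self z)))
  have hpiu : ∀ jj, IsUnit (pi jj) := fun jj ↦ hunitL _ fun M ↦ by rw [hpi]; exact hTne jj M
  have hpiint : ∀ jj, IsIntegral R (pi jj) := fun jj ↦ hlift _ fun M ↦ by rw [hpi]; exact hTmem jj M
  -- exponents and units
  have hai : ∀ i, ∀ M, ∃ e : κ M → ℕ, ∃ w : (S M)ˣ,
      φ (algebraMap R L (a i)) M = ((w : S M) : K M) * ∏ j, (p M j : K M) ^ e j := fun i M ↦ by
    let y : S M := algebraMap (D M) (S M) ⟨_, a i, rfl⟩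
    have hy : y ≠ 0 := fun h ↦ by
      obtain ⟨hmin, -⟩ := hprime M.asIdeal M.isMaximal.isPrime
      have h0 : a i ∈ M.asIdeal.comap (algebraMap R L) :=
        (Ideal.Quotient.eq_zero_iff_mem (I := M.asIdeal)).mp (congrArg Subtype.val h)
      exact Set.disjoint_left.mp (Ideal.disjoint_nonZeroDivisors_of_mem_minimalPrimes hmin) h0 (ha i)
    obtain ⟨e, w, hw⟩ := hpfac M y hy
    refine ⟨e, w, ?_⟩
    change (y : K M) = _
    rw [← hw]
    push_cast
    simp only [mul_comm]
  choose e w hw using hai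
  let E : Fin n → ι → ℕ := fun i jj ↦ e i jj.1 jj.2
  have hprodT : ∀ i M, φ (∏ jj, pi jj ^ E i jj) M = ∏ j, (p M j : K M) ^ e i M j := fun i M ↦ by
    rw [map_prod, Finset.prod_apply, Fintype.prod_sigma, Finset.prod_eq_single M]
    · refine Finset.prod_congr rfl fun j _ ↦ ?_
      rw [map_pow, Pi.pow_apply, hpi]
      simp [T, E]
    · intro M' _ hne
      refine Finset.prod_eq_one fun j _ ↦ ?_
      rw [map_pow, Pi.pow_apply, hpi]
      simp [T, Function.update_of_ne hne.symm]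
    · exact fun h ↦ absurd (Finset.mem_univ M) h
  have hu : ∀ i, ∃ v v' : L, IsIntegral R v ∧ IsIntegral R v' ∧ v * v' = 1 ∧
      algebraMap R L (a i) = v * ∏ jj, pi jj ^ E i jj := by
    intro i
    obtain ⟨P, hP⟩ : IsUnit (∏ jj, pi jj ^ E i jj) := IsUnit.prod_univ_iff.mpr fun jj ↦ (hpiu jj).pow _
    let v := algebraMap R L (a i) * (↑P⁻¹ : L)
    have hv : algebraMap R L (a i) = v * ∏ jj, pi jj ^ E i jj := by
      simp [v, ← hP]
    have hφv : ∀ M, φ v M = ((w i M : S M) : K M) := fun M ↦ by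
      have h := congrFun (congrArg φ hv) M
      rw [map_mul, Pi.mul_apply, hprodT, hw i M] at h
      refine (mul_right_cancel₀ ?_ h).symm
      exact Finset.prod_ne_zero_iff.mpr fun j _ ↦ pow_ne_zero _ fun h ↦ hp0 M j (Subtype.ext h)
    have hvu : IsUnit v := hunitL v fun M ↦ by
      rw [hφv]
      exact fun h ↦ (w i M).ne_zero (Subtype.ext h)
    refine ⟨v, ↑hvu.unit⁻¹, hlift v fun M ↦ by rw [hφv]; exact SetLike.coe_mem _, hlift _ fun M ↦ ?_,
      hvu.mul_val_inv, hv⟩
    have h := congrFun (congrArg φ hvu.mul_val_inv) M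
    rw [map_mul, Pi.mul_apply, hφv, map_one, Pi.one_apply] at h
    have h' : ((↑(w i M)⁻¹ : S M) : K M) = φ (↑hvu.unit⁻¹ : L) M := by
      have hww : ((w i M : S M) : K M) * ((↑(w i M)⁻¹ : S M) : K M) = 1 := by
        rw [← MulMemClass.coe_mul, Units.mul_inv]; rfl
      exact mul_left_cancel₀ (fun h0 ↦ (w i M).ne_zero (Subtype.ext h0)) (hww.trans h.symm)
    rw [← h']; exact SetLike.coe_mem _
  choose v v' hv hv' hvv' hafac using hu
  have hcop : ∀ jj kk : ι, ∃ c d : L, IsIntegral R c ∧ IsIntegral R d ∧ (jj ≠ kk → c * pi jj + d * pi kk = 1) := by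
    intro jj kk
    by_cases hne : jj = kk
    · exact ⟨0, 0, isIntegral_zero, isIntegral_zero, fun h ↦ absurd hne h⟩
    have hloc : ∀ M, ∃ c d : S M, (c : K M) * T jj M + (d : K M) * T kk M = 1 := fun M ↦ by
      obtain ⟨M₁, j⟩ := jj
      obtain ⟨M₂, k⟩ := kk
      by_cases h1 : M = M₁
      · by_cases h2 : M = M₂
        · subst h1; subst h2
          obtain ⟨c, d, hcd⟩ := hpcop M j k fun h ↦ hne (by rw [h])
          exact ⟨c, d, by simpa [T] using congrArg Subtype.val hcd⟩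
        · exact ⟨0, 1, by simp [T, Function.update_of_ne h2]⟩
      · exact ⟨1, 0, by simp [T, Function.update_of_ne h1]⟩
    choose c d hcd using hloc
    obtain ⟨c₀, hc₀⟩ := hφsurj fun M ↦ (c M : K M)
    obtain ⟨d₀, hd₀⟩ := hφsurj fun M ↦ (d M : K M)
    have hc₀i : IsIntegral R c₀ := hlift _ fun M ↦ by rw [hc₀]; exact SetLike.coe_mem _
    have hd₀i : IsIntegral R d₀ := hlift _ fun M ↦ by rw [hd₀]; exact SetLike.coe_mem _
    obtain ⟨W, hW⟩ : ∃ W : L, φ W = 1 ∧ W = c₀ * pi jj + d₀ * pi kk := ⟨_, by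
      funext M
      rw [map_add, map_mul, map_mul, hc₀, hd₀, hpi, hpi]
      exact hcd M, rfl⟩
    have hWu : IsUnit W := hunitL W fun M ↦ by rw [hW.1]; exact one_ne_zero
    have hWi : IsIntegral R (↑hWu.unit⁻¹ : L) := hlift _ fun M ↦ by
      have h := congrFun (congrArg φ hWu.mul_val_inv) M
      rw [map_mul, Pi.mul_apply, hW.1, map_one, Pi.one_apply, one_mul] at h
      rw [h]; exact one_mem _
    exact ⟨c₀ * ↑hWu.unit⁻¹, d₀ * ↑hWu.unit⁻¹, hc₀i.mul hWi, hd₀i.mul hWi, fun _ ↦ by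
      rw [mul_right_comm, mul_right_comm d₀, ← add_mul, ← hW.2]
      exact hWu.mul_val_inv⟩
  choose c d hc hd hcd using hcop
  let G : Set L := Set.range pi ∪ Set.range v ∪ Set.range v' ∪ Set.range (fun q : ι × ι ↦ c q.1 q.2) ∪
    Set.range (fun q : ι × ι ↦ d q.1 q.2)
  have hGfin : G.Finite := ((((Set.finite_range _).union (Set.finite_range _)).union (Set.finite_range _)).union
    (Set.finite_range _)).union (Set.finite_range _)
  have hGint : ∀ y ∈ G, IsIntegral R y := by
    rintro y ((((⟨j, rfl⟩ | ⟨i, rfl⟩) | ⟨i, rfl⟩) | ⟨q, rfl⟩) | ⟨q, rfl⟩)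
    exacts [hpiint j, hv i, hv' i, hc _ _, hd _ _]
  let B := Algebra.adjoin R G
  have hfg : B.toSubmodule.FG := fg_adjoin_of_finite hGfin hGint
  haveI hBfin : Module.Finite R B := Module.Finite.iff_fg.mpr hfg
  have hm : ∀ y ∈ G, y ∈ B := fun y hy ↦ Algebra.subset_adjoin hy
  let π' : ι → B := fun jj ↦ ⟨pi jj, hm _ (.inl (.inl (.inl (.inl ⟨jj, rfl⟩))))⟩
  let u' : Fin n → Bˣ := fun i ↦
    ⟨⟨v i, hm _ (.inl (.inl (.inl (.inr ⟨i, rfl⟩))))⟩, ⟨v' i, hm _ (.inl (.inl (.inr ⟨i, rfl⟩)))⟩,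
      Subtype.ext (hvv' i), Subtype.ext (by rw [MulMemClass.coe_mul, mul_comm]; exact hvv' i)⟩
  refine ⟨B, inferInstance, inferInstance, ι, inferInstance, π', u', E,
    fun r r' h ↦ hLinj (congrArg Subtype.val h), hBfin, ?_, fun jj ↦ ?_, fun jj kk hne ↦ ?_, fun i ↦ ?_⟩
  · obtain ⟨G', hG'⟩ := hfg
    obtain ⟨N₁, hN₁⟩ : ∃ N₁ : ℕ, ∀ y ∈ G', ∃ r : R, algebraMap R L x ^ N₁ * y = algebraMap R L r := by
      obtain ⟨s, hs⟩ := IsLocalization.exist_integer_multiples_of_finset (Submonoid.powers x) G'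
      obtain ⟨N₁, hN₁⟩ := s.2
      refine ⟨N₁, fun y hy ↦ ?_⟩
      obtain ⟨r, hr⟩ := hs y hy
      refine ⟨r, ?_⟩
      rw [← map_pow, show x ^ N₁ = (s : R) from hN₁, ← Algebra.smul_def]
      exact hr.symm
    have hxB : ∀ b : L, b ∈ B.toSubmodule → ∃ r : R, algebraMap R L x ^ N₁ * b = algebraMap R L r := by
      intro b hb
      rw [← hG'] at hb
      induction hb using Submodule.span_induction with
      | mem y hy => exact hN₁ y hy
      | zero => exact ⟨0, by simp⟩
      | add y z _ _ hy hz =>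
        obtain ⟨r, hr⟩ := hy; obtain ⟨r', hr'⟩ := hz
        exact ⟨r + r', by rw [mul_add, hr, hr', map_add]⟩
      | smul t y _ hy =>
        obtain ⟨r, hr⟩ := hy
        exact ⟨t * r, by rw [Algebra.smul_def, mul_left_comm, hr, map_mul]⟩
    obtain ⟨N, hN⟩ : ∃ N : ℕ, maximalIdeal R ^ N ≤ Ideal.span {x ^ N₁} := by
      refine Ideal.exists_pow_le_of_le_radical_of_fg ?_ (IsNoetherian.noetherian _)
      rw [Ideal.radical_eq_sInf]
      refine le_sInf fun q ⟨hq, hqp⟩ ↦ ?_
      haveI := hqp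
      have hxq : x ∈ q := hqp.mem_of_pow_mem N₁ (hq (Ideal.mem_span_singleton_self _))
      rcases Ring.krullDimLE_one_iff.mp ‹_› q hqp with h | h
      · exact absurd hx (Set.disjoint_left.mp (Ideal.disjoint_nonZeroDivisors_of_mem_minimalPrimes h) hxq)
      · exact (IsLocalRing.eq_maximalIdeal h).ge
    refine ⟨N, fun r hr b ↦ ?_⟩
    obtain ⟨t, rfl⟩ := Ideal.mem_span_singleton.mp (hN hr)
    obtain ⟨r', hr'⟩ := hxB b b.2
    refine ⟨t * r', Subtype.ext ?_⟩
    change algebraMap R L (t * r') = (x ^ N₁ * t) • (b : L)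
    rw [Algebra.smul_def, map_mul, map_mul, map_pow, mul_right_comm, hr', mul_comm]
  · rw [mem_nonZeroDivisors_iff_right]
    intro y hy
    exact Subtype.ext ((hpiu jj).mul_left_eq_zero.mp (congrArg Subtype.val hy))
  · exact ⟨⟨c jj kk, hm _ (.inl (.inr ⟨(jj, kk), rfl⟩))⟩, ⟨d jj kk, hm _ (.inr ⟨(jj, kk), rfl⟩)⟩,
      Subtype.ext (hcd jj kk hne)⟩
  · apply Subtype.ext
    push_cast
    exact hafac i

end Groth.Agent.CycTameLib
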