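import Mathlib
import Groth.Prelude.Def_Tame
import Groth.Agent.CycTameLib.Factor

/-!
# Existence of the data of a tame symbol
-/

set_option autoImplicit false

universe u

open IsLocalRing

namespace Groth.Agent.CycTameLib

/-- at a prime, at most one of finitely many pairwise comaximal elements is a nonunit -/
theorem exists_param {B : Type u} [CommRing B] {κ : Type u} [Fintype κ] (π : κ → B)
    (hπ : ∀ j, π j ∈ nonZeroDivisors B) (hcop : ∀ j k, j ≠ k → IsCoprime (π j) (π k)) (q : Ideal B) [q.IsPrime] :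
    ∃ P : Localization.AtPrime q, P ∈ nonZeroDivisors (Localization.AtPrime q) ∧
      ∀ (u : Bˣ) (e : κ → ℕ), ∃ (v : (Localization.AtPrime q)ˣ) (m : ℕ),
        algebraMap B (Localization.AtPrime q) ((u : B) * ∏ j, π j ^ e j) = (v : Localization.AtPrime q) * P ^ m := by
  classical
  have hnzd : ∀ j, algebraMap B (Localization.AtPrime q) (π j) ∈ nonZeroDivisors (Localization.AtPrime q) := fun j ↦ by
    rw [mem_nonZeroDivisors_iff_right]
    intro z hz
    obtain ⟨b, s, rfl⟩ := IsLocalization.exists_mk'_eq q.primeCompl z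
    rw [IsLocalization.mk'_eq_zero_iff]
    have h2 : algebraMap B (Localization.AtPrime q) (b * π j) = 0 := by
      rw [map_mul, ← IsLocalization.mk'_spec' (Localization.AtPrime q) b s, mul_assoc, hz, mul_zero]
    obtain ⟨t, ht⟩ := (IsLocalization.map_eq_zero_iff q.primeCompl _ _).mp h2
    exact ⟨t, (mem_nonZeroDivisors_iff_right.mp (hπ j)) _ (by rw [mul_assoc]; exact ht)⟩
  by_cases h : ∃ j₀, π j₀ ∈ q
  · obtain ⟨j₀, hj₀⟩ := h
    refine ⟨_, hnzd j₀, fun u e ↦ ?_⟩
    have hu : IsUnit (algebraMap B (Localization.AtPrime q) ((u : B) * ∏ j ∈ Finset.univ.erase j₀, π j ^ e j)) := by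
      refine IsLocalization.map_units (M := q.primeCompl) _ ⟨_, fun hmem ↦ ?_⟩
      rcases (‹q.IsPrime›.mem_or_mem hmem) with h1 | h1
      · exact ‹q.IsPrime›.ne_top (q.eq_top_of_isUnit_mem h1 u.isUnit)
      · obtain ⟨j, hj, hjq⟩ := (Ideal.IsPrime.prod_mem_iff).mp h1
        obtain ⟨c, d, hcd⟩ := hcop j j₀ (Finset.ne_of_mem_erase hj)
        refine ‹q.IsPrime›.ne_top ((Ideal.eq_top_iff_one _).mpr ?_)
        rw [← hcd]
        exact add_mem (q.mul_mem_left _ (‹q.IsPrime›.mem_of_pow_mem _ hjq)) (q.mul_mem_left _ hj₀)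
    refine ⟨hu.unit, e j₀, ?_⟩
    rw [IsUnit.unit_spec, ← map_pow, ← map_mul, mul_assoc]
    congr 2
    rw [mul_comm, Finset.mul_prod_erase _ (fun j ↦ π j ^ e j) (Finset.mem_univ j₀)]
  · push Not at h
    refine ⟨1, one_mem _, fun u e ↦ ?_⟩
    have hu : IsUnit (algebraMap B (Localization.AtPrime q) ((u : B) * ∏ j, π j ^ e j)) := by
      refine IsLocalization.map_units (M := q.primeCompl) _ ⟨_, fun hmem ↦ ?_⟩
      rcases (‹q.IsPrime›.mem_or_mem hmem) with h1 | h1
      · exact ‹q.IsPrime›.ne_top (q.eq_top_of_isUnit_mem h1 u.isUnit)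
      · obtain ⟨j, -, hjq⟩ := (Ideal.IsPrime.prod_mem_iff).mp h1
        exact h j (‹q.IsPrime›.mem_of_pow_mem _ hjq)
    exact ⟨hu.unit, 0, by rw [IsUnit.unit_spec, pow_zero, mul_one]⟩

/-- simultaneous local parameters in a finite extension -/
theorem exists_params {A : Type u} [CommRing A] [IsNoetherianRing A] [IsLocalRing A] (hA : ringKrullDim A = 1)
    {n : ℕ} (a : Fin n → A) (ha : ∀ i, a i ∈ nonZeroDivisors A) :
    ∃ (B : Type u) (_ : CommRing B) (_ : Algebra A B), CycAlg.IsFinExt A B (maximalIdeal A) ∧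
      ∀ q : MaximalSpectrum B, ∃ π : Localization.AtPrime q.asIdeal, π ∈ nonZeroDivisors (Localization.AtPrime q.asIdeal) ∧
        ∀ i, ∃ (v : (Localization.AtPrime q.asIdeal)ˣ) (e : ℕ),
          algebraMap A (Localization.AtPrime q.asIdeal) (a i) = (v : Localization.AtPrime q.asIdeal) * π ^ e := by
  obtain ⟨B, _, _, κ, _, π, u, e, hinj, hfin, hN, hπ, hcop, hfac⟩ := exists_factorization hA a ha
  refine ⟨B, inferInstance, inferInstance, ⟨hinj, hfin, hN⟩, fun q ↦ ?_⟩
  obtain ⟨P, hP, hPe⟩ := exists_param π hπ hcop q.asIdeal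
  refine ⟨P, hP, fun i ↦ ?_⟩
  obtain ⟨v, m, hvm⟩ := hPe (u i) (e i)
  exact ⟨v, m, by rw [IsScalarTower.algebraMap_apply A B, hfac i, hvm]⟩

/-- maximal ideals of a finite extension of a local ring lie over the maximal ideal -/
theorem isLocalHom_maximal {A B : Type u} [CommRing A] [IsLocalRing A] [CommRing B] [Algebra A B] [Module.Finite A B]
    (q : MaximalSpectrum B) : IsLocalHom (algebraMap A (Localization.AtPrime q.asIdeal)) := by
  refine ⟨fun a ha ↦ ?_⟩
  by_contra hu
  have hm : q.asIdeal.comap (algebraMap A B) = maximalIdeal A :=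
    IsLocalRing.eq_maximalIdeal (Ideal.isMaximal_comap_of_isIntegral_of_isMaximal q.asIdeal)
  have h1 : algebraMap A B a ∈ q.asIdeal := by
    change a ∈ q.asIdeal.comap (algebraMap A B)
    rw [hm]
    exact (mem_maximalIdeal _).mpr hu
  rw [IsScalarTower.algebraMap_apply A B] at ha
  exact (IsLocalization.AtPrime.isUnit_to_map_iff (Localization.AtPrime q.asIdeal) q.asIdeal _).mp ha h1

theorem nonempty_tameData {A : Type u} [CommRing A] [IsNoetherianRing A] [IsLocalRing A] (hA : ringKrullDim A = 1)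
    (a b : A) (ha : a ∈ nonZeroDivisors A) (hb : b ∈ nonZeroDivisors A) : Nonempty (CycAlg.TameData A a b) := by
  obtain ⟨B, _, _, hB, hq⟩ := exists_params hA ![a, b] (by intro i; fin_cases i <;> assumption)
  choose π hπ hv using hq
  choose v e hve using hv
  haveI := hB.2.1
  exact ⟨{ B := B, isFinExt := hB, isLocalHom := isLocalHom_maximal, π := π, π_mem := hπ,
           u₁ := fun q ↦ v q 0, u₂ := fun q ↦ v q 1, e₁ := fun q ↦ e q 0, e₂ := fun q ↦ e q 1,
           fac₁ := fun q ↦ hve q 0, fac₂ := fun q ↦ hve q 1 }⟩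

end Groth.Agent.CycTameLib
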