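import Mathlib
import Groth.Prelude.Def_Tame

/-!
# The local factor of a tame symbol does not depend on the parameter
-/

set_option autoImplicit false

universe u

open IsLocalRing

namespace Groth.Agent.CycTameLib

variable {R : Type u} [CommRing R] [IsLocalRing R]

/-- the signed monomial entering the tame symbol -/
noncomputable def base (u v : Rˣ) (e₁ e₂ : ℕ) : ResidueField R :=
  (-1) ^ (e₁ * e₂) * residue R (u : R) ^ e₂ * (residue R (v : R) ^ e₁)⁻¹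

/-- the local factor before taking norms -/
noncomputable def raw (π : R) (u v : Rˣ) (e₁ e₂ : ℕ) : ResidueField R :=
  base u v e₁ e₂ ^ (Ring.ord R π).toNat

theorem residue_ne_zero' (u : Rˣ) : residue R (u : R) ≠ 0 :=
  (residue_ne_zero_iff_isUnit _).mpr u.isUnit

theorem base_ne_zero (u v : Rˣ) (e₁ e₂ : ℕ) : base u v e₁ e₂ ≠ 0 :=
  mul_ne_zero (mul_ne_zero (pow_ne_zero _ (neg_ne_zero.mpr one_ne_zero)) (pow_ne_zero _ (residue_ne_zero' u)))
    (inv_ne_zero (pow_ne_zero _ (residue_ne_zero' v)))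

theorem neg_one_pow_mul_self {S : Type u} [Monoid S] [HasDistribNeg S] (g c : ℕ) :
    ((-1 : S) ^ (g * g * c)) = (-1) ^ (g * c) := by
  rcases Nat.even_or_odd g with h | h
  · rw [((h.mul_right g).mul_right c).neg_one_pow, (h.mul_right c).neg_one_pow]
  · rcases Nat.even_or_odd c with h' | h'
    · rw [(h'.mul_left _).neg_one_pow, (h'.mul_left _).neg_one_pow]
    · rw [((h.mul h).mul h').neg_one_pow, (h.mul h').neg_one_pow]

theorem base_mul (u v : Rˣ) (g c₁ c₂ : ℕ) : base u v (g * c₁) (g * c₂) = base u v c₁ c₂ ^ g := by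
  rw [base, base, mul_pow, mul_pow, inv_pow, ← pow_mul, ← pow_mul, ← pow_mul, show g * c₁ * (g * c₂) = g * g * (c₁ * c₂) by ring,
    neg_one_pow_mul_self]
  ring_nf

variable [IsNoetherianRing R] [Ring.KrullDimLE 1 R]

theorem ord_toNat_eq_zero_iff {π : R} (hπ : π ∈ nonZeroDivisors R) : (Ring.ord R π).toNat = 0 ↔ IsUnit π := by
  refine ⟨fun h ↦ ?_, fun h ↦ by rw [Ring.ord_of_isUnit h]; rfl⟩
  rcases ENat.toNat_eq_zero.mp h with h | h
  · rw [Ring.ord, Module.length_eq_zero_iff, Submodule.Quotient.subsingleton_iff] at h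
    exact Ideal.span_singleton_eq_top.mp h
  · exact absurd h (Ring.ord_ne_top hπ)

theorem ord_pow_toNat {π : R} (hπ : π ∈ nonZeroDivisors R) (v : Rˣ) (e : ℕ) :
    (Ring.ord R ((v : R) * π ^ e)).toNat = e * (Ring.ord R π).toNat := by
  rw [Ring.ord_mul_of_isUnit_left v.isUnit, Ring.ord_pow hπ, nsmul_eq_mul, ENat.toNat_mul, ENat.toNat_coe]

theorem raw_eq_one_of_unit {π : R} (hπ : π ∈ nonZeroDivisors R) {u v : Rˣ} {e₁ e₂ : ℕ} {a b : R} (ha : IsUnit a)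
    (hb : IsUnit b) (h1 : a = (u : R) * π ^ e₁) (h2 : b = (v : R) * π ^ e₂) : raw π u v e₁ e₂ = 1 := by
  by_cases hu : IsUnit π
  · rw [raw, (ord_toNat_eq_zero_iff hπ).mpr hu, pow_zero]
  · have he : ∀ (w : Rˣ) (e : ℕ), IsUnit ((w : R) * π ^ e) → e = 0 := fun w e h ↦ by
      by_contra hne
      exact hu ((isUnit_pow_iff hne).mp ((IsUnit.mul_iff.mp h).2))
    rw [he u e₁ (h1 ▸ ha), he v e₂ (h2 ▸ hb)] at *
    simp [raw, base]

theorem unit_of_isUnit_or {a b : R} {π : R} (hπ : π ∈ nonZeroDivisors R) {u v : Rˣ} {e₁ e₂ : ℕ}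
    (h1 : a = (u : R) * π ^ e₁) (h2 : b = (v : R) * π ^ e₂) (hab : ¬ (IsUnit a ∧ IsUnit b)) :
    0 < (Ring.ord R π).toNat ∧ (e₁ ≠ 0 ∨ e₂ ≠ 0) := by
  refine ⟨Nat.pos_of_ne_zero fun h ↦ hab ?_, ?_⟩
  · have hu := (ord_toNat_eq_zero_iff hπ).mp h
    exact ⟨h1 ▸ u.isUnit.mul (hu.pow _), h2 ▸ v.isUnit.mul (hu.pow _)⟩
  · by_contra h
    push Not at h
    exact hab ⟨by rw [h1, h.1, pow_zero, mul_one]; exact u.isUnit, by rw [h2, h.2, pow_zero, mul_one]; exact v.isUnit⟩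

/-- independence of the parameter -/
theorem raw_invariant {a b π π' : R} (hπ : π ∈ nonZeroDivisors R) (hπ' : π' ∈ nonZeroDivisors R)
    {u v u' v' : Rˣ} {e₁ e₂ f₁ f₂ : ℕ} (h1 : a = (u : R) * π ^ e₁) (h2 : b = (v : R) * π ^ e₂)
    (h1' : a = (u' : R) * π' ^ f₁) (h2' : b = (v' : R) * π' ^ f₂) : raw π u v e₁ e₂ = raw π' u' v' f₁ f₂ := by
  by_cases hab : IsUnit a ∧ IsUnit b
  · rw [raw_eq_one_of_unit hπ hab.1 hab.2 h1 h2, raw_eq_one_of_unit hπ' hab.1 hab.2 h1' h2']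
  obtain ⟨hm, he⟩ := unit_of_isUnit_or hπ h1 h2 hab
  obtain ⟨hm', hf⟩ := unit_of_isUnit_or hπ' h1' h2' hab
  set m := (Ring.ord R π).toNat with hmdef
  set m' := (Ring.ord R π').toNat with hmdef'
  have E1 : e₁ * m = f₁ * m' := by rw [← ord_pow_toNat hπ u, ← ord_pow_toNat hπ' u', ← h1, ← h1']
  have E2 : e₂ * m = f₂ * m' := by rw [← ord_pow_toNat hπ v, ← ord_pow_toNat hπ' v', ← h2, ← h2']
  have hg0 : 0 < Nat.gcd e₁ e₂ := Nat.pos_of_ne_zero fun h ↦ by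
    rcases Nat.gcd_eq_zero_iff.mp h with ⟨h₁, h₂⟩
    rcases he with h | h <;> exact h ‹_›
  have hg0' : 0 < Nat.gcd f₁ f₂ := Nat.pos_of_ne_zero fun h ↦ by
    rcases Nat.gcd_eq_zero_iff.mp h with ⟨h₁, h₂⟩
    rcases hf with h | h <;> exact h ‹_›
  obtain ⟨c₁, c₂, hco, hc1, hc2⟩ := Nat.exists_coprime e₁ e₂
  obtain ⟨d₁, d₂, -, hd1, hd2⟩ := Nat.exists_coprime f₁ f₂
  set g := Nat.gcd e₁ e₂
  set g' := Nat.gcd f₁ f₂
  have hgm : g * m = g' * m' := by
    have h := Nat.gcd_mul_right e₁ m e₂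
    rw [E1, E2, Nat.gcd_mul_right] at h
    exact h.symm
  have hcd1 : c₁ = d₁ := by
    refine Nat.eq_of_mul_eq_mul_right (show 0 < g * m from Nat.mul_pos hg0 hm) ?_
    rw [← mul_assoc, ← hc1, E1, hgm, ← mul_assoc, ← hd1]
  have hcd2 : c₂ = d₂ := by
    refine Nat.eq_of_mul_eq_mul_right (show 0 < g * m from Nat.mul_pos hg0 hm) ?_
    rw [← mul_assoc, ← hc2, E2, hgm, ← mul_assoc, ← hd2]
  subst hcd1 hcd2
  -- compare the two roots inside the total ring of fractions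
  let T := Localization (nonZeroDivisors R)
  let ι := algebraMap R T
  obtain ⟨U, hU⟩ : IsUnit (ι (π ^ g)) := IsLocalization.map_units T (⟨π ^ g, pow_mem hπ g⟩ : nonZeroDivisors R)
  obtain ⟨U', hU'⟩ : IsUnit (ι (π' ^ g')) := IsLocalization.map_units T (⟨π' ^ g', pow_mem hπ' g'⟩ : nonZeroDivisors R)
  let img : Rˣ →* Tˣ := Units.map (ι : R →* T)
  have hrel : ∀ (w w' : Rˣ) (c : ℕ), (w : R) * (π ^ g) ^ c = (w' : R) * (π' ^ g') ^ c →
      (U' * U⁻¹) ^ c = img (w * w'⁻¹) := by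
    intro w w' c h
    have h' : img w * U ^ c = img w' * U' ^ c := by
      apply Units.ext
      push_cast
      rw [hU, hU']
      simpa [img, map_mul, map_pow] using congrArg ι h
    rw [map_mul, map_inv, mul_pow, inv_pow]
    calc U' ^ c * (U ^ c)⁻¹ = (img w')⁻¹ * (img w' * U' ^ c) * (U ^ c)⁻¹ := by group
      _ = img w * (img w')⁻¹ := by rw [← h']; rw [mul_comm ((img w')⁻¹)]; rw [mul_comm (img w) (U ^ c), mul_assoc, mul_assoc]; rw [mul_comm (img w')⁻¹, ← mul_assoc, ← mul_assoc, mul_comm (U ^ c) (img w), mul_inv_cancel_right]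
  have k1 := hrel u u' c₁ (by rw [← pow_mul, ← pow_mul, mul_comm g, mul_comm g', ← hc1, ← hd1, ← h1, ← h1'])
  have k2 := hrel v v' c₂ (by rw [← pow_mul, ← pow_mul, mul_comm g, mul_comm g', ← hc2, ← hd2, ← h2, ← h2'])
  have hbez : (1 : ℤ) = (c₁ : ℤ) * Nat.gcdA c₁ c₂ + (c₂ : ℤ) * Nat.gcdB c₁ c₂ := by
    rw [← Nat.gcd_eq_gcd_ab, hco]; rfl
  set D := U' * U⁻¹
  have hD : D = img ((u * u'⁻¹) ^ Nat.gcdA c₁ c₂ * (v * v'⁻¹) ^ Nat.gcdB c₁ c₂) := by
    rw [map_mul, map_zpow, map_zpow, ← k1, ← k2, ← zpow_natCast, ← zpow_natCast, ← zpow_mul, ← zpow_mul, ← zpow_add,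
      ← hbez, zpow_one]
  set z := (u * u'⁻¹) ^ Nat.gcdA c₁ c₂ * (v * v'⁻¹) ^ Nat.gcdB c₁ c₂
  have himg : Function.Injective img := Units.map_injective (IsLocalization.injective T le_rfl)
  have hu : u = z ^ c₁ * u' := by
    have : z ^ c₁ = u * u'⁻¹ := himg (by rw [map_pow, ← hD, k1])
    rw [this, inv_mul_cancel_right]
  have hv : v = z ^ c₂ * v' := by
    have : z ^ c₂ = v * v'⁻¹ := himg (by rw [map_pow, ← hD, k2])
    rw [this, inv_mul_cancel_right]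
  have hbase : base u v c₁ c₂ = base u' v' c₁ c₂ := by
    have hz := residue_ne_zero' z
    have hv' := residue_ne_zero' v'
    rw [base, base, hu, hv]
    simp only [Units.val_mul, Units.val_pow_eq_pow_val, map_mul, map_pow]
    field_simp
    ring
  rw [raw, raw, ← hmdef, ← hmdef', hc1, hc2, hd1, hd2, mul_comm c₁ g, mul_comm c₂ g, mul_comm c₁ g', mul_comm c₂ g',
    base_mul, base_mul, ← pow_mul, ← pow_mul, hgm, hbase]

end Groth.Agent.CycTameLib
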