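import Mathlib
import Groth.Prelude.Def_Tame
import Groth.Agent.CycTameLib.Data
import Groth.Agent.CycTameLib.Local
import Groth.Agent.CAlgSmall.ClopenSplit
import Groth.Agent.CycAlgLib.RLen

/-!
# Lengths in finite extensions of one-dimensional local rings
-/

set_option autoImplicit false

universe u

open IsLocalRing Groth.Agent.CycAlgLib

namespace Groth.Agent.CycTameLib

variable {A : Type u} [CommRing A] [IsLocalRing A] {B : Type u} [CommRing B] [Algebra A B]

theorem finite_maximalSpectrum [Module.Finite A B] : Finite (MaximalSpectrum B) ∧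
    ∀ n : MaximalSpectrum B, n.asIdeal.comap (algebraMap A B) = maximalIdeal A := by
  have hover : ∀ n : MaximalSpectrum B, n.asIdeal.comap (algebraMap A B) = maximalIdeal A := fun n ↦
    IsLocalRing.eq_maximalIdeal (Ideal.isMaximal_comap_of_isIntegral_of_isMaximal n.asIdeal)
  refine ⟨?_, hover⟩
  haveI : Finite ((maximalIdeal A).primesOver B) :=
    Finite.of_equiv _ (PrimeSpectrum.primesOverOrderIsoFiber A B (maximalIdeal A)).symm.toEquiv
  refine Finite.of_injective (fun n : MaximalSpectrum B ↦
    (⟨n.asIdeal, n.isMaximal.isPrime, ⟨(hover n).symm⟩⟩ : (maximalIdeal A).primesOver B)) fun a b e ↦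
    MaximalSpectrum.ext (congrArg Subtype.val e)

theorem krullDimLE_one_localization [Ring.KrullDimLE 1 A] [Algebra.IsIntegral A B] (q : Ideal B) [q.IsPrime] :
    Ring.KrullDimLE 1 (Localization.AtPrime q) := by
  have hB : ringKrullDim B ≤ 1 := by
    refine le_trans ?_ (Ring.krullDimLE_iff.mp (inferInstance : Ring.KrullDimLE 1 A))
    exact Order.krullDim_le_of_strictMono (PrimeSpectrum.comap (algebraMap A B)) fun I J h ↦
      Ideal.IsIntegral.comap_lt_comap h
  refine Ring.krullDimLE_iff.mpr (le_trans ?_ hB)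
  rw [IsLocalization.AtPrime.ringKrullDim_eq_height q]
  exact Ideal.height_le_ringKrullDim_of_ne_top (Ideal.IsPrime.ne_top inferInstance)

theorem lenAt_quot (n : Ideal B) [n.IsMaximal] (P : B) :
    CAlgSmall.lenAt n (B ⧸ Ideal.span {P}) = Ring.ord (Localization.AtPrime n) (algebraMap B _ P) := by
  have e := ((IsLocalizedModule.iso n.primeCompl (Submodule.toLocalizedQuotient' (Localization.AtPrime n) n.primeCompl
    (Algebra.linearMap B (Localization.AtPrime n)) (Ideal.span {P} : Submodule B B))).extendScalarsOfIsLocalization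
      n.primeCompl (Localization.AtPrime n))
  rw [CAlgSmall.lenAt, e.length_eq, Ring.ord]
  refine (Submodule.quotEquivOfEq _ _ ?_).length_eq
  rw [Ideal.localized'_eq_map, Ideal.map_span, Set.image_singleton]

theorem finrank_residue (n : MaximalSpectrum B) [IsLocalHom (algebraMap A (Localization.AtPrime n.asIdeal))]
    (hn : n.asIdeal.comap (algebraMap A B) = maximalIdeal A) :
    Module.finrank (A ⧸ n.asIdeal.comap (algebraMap A B)) (B ⧸ n.asIdeal) =
      Module.finrank (ResidueField A) (ResidueField (Localization.AtPrime n.asIdeal)) := by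
  refine Algebra.finrank_eq_of_equiv_equiv (Ideal.quotEquivOfEq hn)
    (RingEquiv.ofBijective (algebraMap (B ⧸ n.asIdeal) n.asIdeal.ResidueField)
      (Ideal.bijective_algebraMap_quotient_residueField n.asIdeal)) ?_
  refine Ideal.Quotient.ringHom_ext (RingHom.ext fun a ↦ ?_)
  rfl

/-- the length of `B/PB` in terms of orders at the maximal ideals -/
theorem length_quot_eq_sum [Module.Finite A B] [Fintype (MaximalSpectrum B)]
    [hl : ∀ n : MaximalSpectrum B, IsLocalHom (algebraMap A (Localization.AtPrime n.asIdeal))] (P : B)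
    (hP : Module.length A (B ⧸ Ideal.span {P}) < ⊤) :
    Module.length A (B ⧸ Ideal.span {P}) = ∑ n : MaximalSpectrum B,
      (Module.finrank (ResidueField A) (ResidueField (Localization.AtPrime n.asIdeal)) : ℕ∞) *
        Ring.ord (Localization.AtPrime n.asIdeal) (algebraMap B _ P) := by
  have hM : IsFiniteLength B (B ⧸ Ideal.span {P}) := by
    have h := Module.length_ne_top_iff.1 hP.ne
    rw [isFiniteLength_iff_isNoetherian_isArtinian] at h ⊢
    exact h.imp (isNoetherian_of_tower A) (isArtinian_of_tower A)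
  have hfin : ∀ n : MaximalSpectrum B,
      Module.Finite (A ⧸ n.asIdeal.comap (algebraMap A B)) (B ⧸ n.asIdeal) := fun n ↦
    Module.Finite.of_restrictScalars_finite A _ _
  rw [CAlgSmall.length_eq_sum_semilocal (A := A) finite_maximalSpectrum.2 (B ⧸ Ideal.span {P}) hfin hM,
    finsum_eq_sum_of_fintype]
  refine Finset.sum_congr rfl fun n _ ↦ ?_
  rw [finrank_residue n (finite_maximalSpectrum.2 n), lenAt_quot]

theorem length_quot_lt_top [IsNoetherianRing A] [Module.Finite A B] [Ring.KrullDimLE 1 A] (P : B)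
    (hP : P ∈ nonZeroDivisors B) : Module.length A (B ⧸ Ideal.span {P}) < ⊤ := by
  haveI : IsNoetherianRing B := IsNoetherianRing.of_finite A B
  haveI : Finite (MaximalSpectrum B) := finite_maximalSpectrum (A := A).1
  haveI : Ring.KrullDimLE 1 B := Ring.krullDimLE_iff.mpr
    (le_trans (Order.krullDim_le_of_strictMono (PrimeSpectrum.comap (algebraMap A B)) fun I J h ↦
      Ideal.IsIntegral.comap_lt_comap h) (Ring.krullDimLE_iff.mp (inferInstance : Ring.KrullDimLE 1 A)))
  have h := isFiniteLength_quotient_span_singleton B hP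
  refine length_lt_top_of_support_subset fun p hp ↦ ?_
  obtain ⟨hN, hA⟩ := isFiniteLength_iff_isNoetherian_isArtinian.mp h
  haveI : IsArtinianRing (B ⧸ Ideal.span {P}) :=
    isArtinian_of_tower B hA
  haveI : Module.Finite A (B ⧸ Ideal.span {P}) := inferInstance
  rw [Module.mem_support_iff_of_finite] at hp
  obtain ⟨Q, hQp, hQ, hQle⟩ : ∃ Q : Ideal (B ⧸ Ideal.span {P}), Q.comap (algebraMap A (B ⧸ Ideal.span {P})) = p.asIdeal ∧
      Q.IsPrime ∧ (⊥ : Ideal (B ⧸ Ideal.span {P})) ≤ Q := by
    obtain ⟨Q, hQle, hQ, hQp⟩ := Ideal.exists_ideal_over_prime_of_isIntegral (R := A) p.asIdeal ⊥ (fun a ha ↦ hp (by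
      rw [Module.mem_annihilator]
      intro m
      rw [Algebra.smul_def, show algebraMap A (B ⧸ Ideal.span {P}) a = 0 from ha, zero_mul]))
    exact ⟨Q, hQp, hQ, hQle⟩
  haveI := hQ
  haveI : Q.IsMaximal := IsArtinianRing.isMaximal_of_isPrime Q
  exact PrimeSpectrum.ext (hQp ▸ IsLocalRing.eq_maximalIdeal (Ideal.isMaximal_comap_of_isIntegral_of_isMaximal Q))

/-- lengths of cokernels of an endomorphism do not change along a finite colength inclusion -/
theorem length_coker_eq {M M' : Type u} [AddCommGroup M] [Module A M] [AddCommGroup M'] [Module A M']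
    (f : M →ₗ[A] M') (hf : Function.Injective f) (φ : M →ₗ[A] M) (φ' : M' →ₗ[A] M') (hc : φ' ∘ₗ f = f ∘ₗ φ)
    (hφ' : Function.Injective φ') (hfin : Module.length A (M' ⧸ LinearMap.range f) < ⊤) :
    Module.length A (M ⧸ LinearMap.range φ) = Module.length A (M' ⧸ LinearMap.range φ') := by
  have hq : ∀ {N : Type u} [AddCommGroup N] [Module A N] (S : Submodule A N), Module.length A (N ⧸ S) = rlen ⊤ S :=
    fun {N} _ _ S ↦ by
      refine (LinearEquiv.length_eq (Submodule.Quotient.equiv _ _ Submodule.topEquiv ?_)).symm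
      ext z
      constructor
      · rintro ⟨w, hw, rfl⟩; exact hw
      · intro hz; exact ⟨⟨z, trivial⟩, hz, rfl⟩
  rw [hq, hq] at *
  let S := LinearMap.range f
  let PS : Submodule A M' := S.map φ'
  have h1 : PS = (LinearMap.range φ).map f := by
    rw [← LinearMap.range_comp, ← hc, LinearMap.range_comp]
  have hPS : PS ≤ S := by rw [h1]; exact LinearMap.map_le_range
  have t1 := rlen_trans (A := ⊤) hPS (le_top : S ≤ ⊤)
  have hPS' : PS ≤ LinearMap.range φ' := LinearMap.map_le_range
  have t2 := rlen_trans (A := ⊤) hPS' (le_top : LinearMap.range φ' ≤ ⊤)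
  have e1 : rlen S PS = rlen (⊤ : Submodule A M) (LinearMap.range φ) := by
    rw [h1, show S = (⊤ : Submodule A M).map f from (Submodule.map_top f).symm, rlen_bot_map hf]
  have e2 : rlen (LinearMap.range φ') PS = rlen (⊤ : Submodule A M') S := by
    rw [show LinearMap.range φ' = (⊤ : Submodule A M').map φ' from (Submodule.map_top φ').symm, rlen_bot_map hφ']
  rw [e1] at t1
  rw [t1, e2] at t2
  have hS : rlen (⊤ : Submodule A M') S ≠ ⊤ := hfin.ne
  obtain ⟨c, hc'⟩ := ENat.ne_top_iff_exists.mp hS
  rw [← hc'] at t2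
  exact (ENat.addLECancellable_coe c).inj.mp (by rw [add_comm] at t2; simpa [add_comm] using t2)

end Groth.Agent.CycTameLib
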