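import Mathlib
import Groth.Agent.CycTameLib.Semilocal

/-!
# Behaviour of local factors in a further finite extension
-/

set_option autoImplicit false

universe u

open IsLocalRing

namespace Groth.Agent.CycTameLib

variable {A : Type u} [CommRing A] [IsLocalRing A] {B : Type u} [CommRing B] [Algebra A B]

theorem finite_residue [Module.Finite A B] (n : MaximalSpectrum B)
    [IsLocalHom (algebraMap A (Localization.AtPrime n.asIdeal))] :
    Module.Finite (ResidueField A) (ResidueField (Localization.AtPrime n.asIdeal)) := by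
  let f : B →ₐ[A] ResidueField (Localization.AtPrime n.asIdeal) := IsScalarTower.toAlgHom A B _
  have hf : Function.Surjective f := fun z ↦ by
    obtain ⟨y, hy⟩ := (Ideal.bijective_algebraMap_quotient_residueField n.asIdeal).2 z
    obtain ⟨b, rfl⟩ := Ideal.Quotient.mk_surjective y
    exact ⟨b, hy⟩
  haveI : Module.Finite A (ResidueField (Localization.AtPrime n.asIdeal)) :=
    Module.Finite.of_surjective f.toLinearMap hf
  exact Module.Finite.of_restrictScalars_finite A _ _

theorem finrank_residue_pos [Module.Finite A B] (n : MaximalSpectrum B)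
    [IsLocalHom (algebraMap A (Localization.AtPrime n.asIdeal))] :
    0 < Module.finrank (ResidueField A) (ResidueField (Localization.AtPrime n.asIdeal)) := by
  haveI := finite_residue (A := A) n
  exact Module.finrank_pos

theorem mem_nonZeroDivisors_of_local (P : B)
    (h : ∀ n : MaximalSpectrum B, algebraMap B (Localization.AtPrime n.asIdeal) P ∈ nonZeroDivisors _) :
    P ∈ nonZeroDivisors B := by
  rw [mem_nonZeroDivisors_iff_right]
  intro y hy
  by_contra hy0
  obtain ⟨m, hm, hle⟩ := Ideal.exists_le_maximal ((⊥ : Ideal B).colon {y})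
    (fun e ↦ hy0 (by
      have h1 := Submodule.mem_colon_singleton.mp (e.ge (Submodule.mem_top (x := (1 : B))))
      rwa [one_smul, Submodule.mem_bot] at h1))
  have h0 : algebraMap B (Localization.AtPrime m) y = 0 :=
    (mem_nonZeroDivisors_iff_right.mp (h ⟨m, hm⟩)) _ (by rw [← map_mul, hy, map_zero])
  obtain ⟨t, ht⟩ := (IsLocalization.map_eq_zero_iff m.primeCompl _ _).mp h0
  exact t.2 (hle (Submodule.mem_colon_singleton.mpr ((Submodule.mem_bot B).mpr ht)))

/-- a global element with a prescribed germ at one maximal ideal and invertible at the others -/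
theorem exists_global [IsNoetherianRing B] [Fintype (MaximalSpectrum B)] (n₀ : MaximalSpectrum B)
    [Ring.KrullDimLE 1 (Localization.AtPrime n₀.asIdeal)]
    (π : Localization.AtPrime n₀.asIdeal) (hπ : π ∈ nonZeroDivisors _) :
    ∃ P : B, Associated (algebraMap B (Localization.AtPrime n₀.asIdeal) P) π ∧
      (∀ n, n ≠ n₀ → IsUnit (algebraMap B (Localization.AtPrime n.asIdeal) P)) ∧ P ∈ nonZeroDivisors B := by
  classical
  obtain ⟨p, s, rfl⟩ := IsLocalization.exists_mk'_eq n₀.asIdeal.primeCompl π
  set R := Localization.AtPrime n₀.asIdeal with hR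
  haveI : IsNoetherianRing R := IsLocalization.isNoetherianRing n₀.asIdeal.primeCompl R inferInstance
  obtain ⟨N, hN⟩ : ∃ N : ℕ, maximalIdeal R ^ N ≤ Ideal.span {IsLocalization.mk' R p s} := by
    refine Ideal.exists_pow_le_of_le_radical_of_fg ?_ (IsNoetherian.noetherian _)
    rw [Ideal.radical_eq_sInf]
    refine le_sInf fun q ⟨hq, hqp⟩ ↦ ?_
    rcases Ring.krullDimLE_one_iff.mp ‹_› q hqp with h | h
    · exact absurd hπ (Set.disjoint_left.mp (Ideal.disjoint_nonZeroDivisors_of_mem_minimalPrimes h)
        (hq (Ideal.mem_span_singleton_self _)))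
    · exact (IsLocalRing.eq_maximalIdeal h).ge
  have hco : IsCoprime (n₀.asIdeal ^ (N + 1)) (∏ n ∈ Finset.univ.erase n₀, n.asIdeal) := by
    refine IsCoprime.prod_right fun n hn ↦ IsCoprime.pow_left ?_
    rw [Ideal.isCoprime_iff_sup_eq]
    exact n₀.isMaximal.coprime_of_ne n.isMaximal fun h ↦ (Finset.ne_of_mem_erase hn) (MaximalSpectrum.ext h.symm)
  obtain ⟨x, hx, y, hy, hxy⟩ := Ideal.isCoprime_iff_exists.mp hco
  refine ⟨p * y + x, ?_⟩
  have hother : ∀ n, n ≠ n₀ → IsUnit (algebraMap B (Localization.AtPrime n.asIdeal) (p * y + x)) := fun n hn ↦ by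
    refine IsLocalization.map_units (M := n.asIdeal.primeCompl) _ ⟨_, fun hmem ↦ n.isMaximal.ne_top ?_⟩
    have hyn : y ∈ n.asIdeal := Ideal.prod_le_inf.trans (Finset.inf_le (Finset.mem_erase.mpr ⟨hn, Finset.mem_univ _⟩)) hy
    refine (Ideal.eq_top_iff_one _).mpr ?_
    have : (1 : B) = (p * y + x) - p * y + y := by rw [← hxy]; ring
    rw [this]
    exact add_mem (sub_mem hmem (Ideal.mul_mem_left _ p hyn)) hyn
  have hassoc : Associated (algebraMap B R (p * y + x)) (IsLocalization.mk' R p s) := by
    have hmem : algebraMap B R (x * (1 - p)) ∈ maximalIdeal R ^ (N + 1) := by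
      rw [map_mul]
      refine Ideal.mul_mem_right _ _ ?_
      rw [← IsLocalization.AtPrime.map_eq_maximalIdeal n₀.asIdeal R, ← Ideal.map_pow]
      exact Ideal.mem_map_of_mem _ hx
    rw [pow_succ] at hmem
    obtain ⟨c, hc, hcx⟩ := Ideal.mem_span_singleton_mul.mp (Ideal.mul_mono_left hN hmem)
    have hp : algebraMap B R p = IsLocalization.mk' R p s * algebraMap B R (s : B) :=
      (IsLocalization.mk'_spec R p s).symm
    have heq : algebraMap B R (p * y + x) = IsLocalization.mk' R p s * (algebraMap B R (s : B) + c) := by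
      rw [mul_add, ← hp, hcx, ← map_add]
      congr 1
      linear_combination p * hxy
    have hu : IsUnit (algebraMap B R (s : B) + c) := by
      by_contra h
      have := sub_mem ((mem_maximalIdeal _).mpr h) hc
      rw [add_sub_cancel_right] at this
      exact (mem_maximalIdeal _).mp this (IsLocalization.map_units R s)
    rw [heq]
    exact associated_mul_unit_left _ _ hu
  refine ⟨hassoc, hother, mem_nonZeroDivisors_of_local _ fun n ↦ ?_⟩
  by_cases hn : n = n₀
  · subst hn
    obtain ⟨w, hw⟩ := hassoc.symm
    rw [← hw]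
    exact mul_mem hπ w.isUnit.mem_nonZeroDivisors
  · exact (hother n hn).mem_nonZeroDivisors

variable {B' : Type u} [CommRing B'] [Algebra A B'] [Algebra B B'] [IsScalarTower A B B']

/-- the maximal ideal of `B` below one of `B'` -/
def below [Module.Finite A B] [Module.Finite A B'] (n' : MaximalSpectrum B') : MaximalSpectrum B :=
  ⟨n'.asIdeal.comap (algebraMap B B'), by
    haveI : Module.Finite B B' := Module.Finite.of_restrictScalars_finite A B B'
    exact Ideal.isMaximal_comap_of_isIntegral_of_isMaximal n'.asIdeal⟩

variable [Module.Finite A B] [Module.Finite A B']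

/-- the map of local rings at a maximal ideal and the one below -/
noncomputable abbrev locMap (n' : MaximalSpectrum B') :
    Localization.AtPrime (below (A := A) (B := B) n').asIdeal →+* Localization.AtPrime n'.asIdeal :=
  Localization.localRingHom _ n'.asIdeal (algebraMap B B') rfl

theorem norm_residue_map (n' : MaximalSpectrum B')
    [IsLocalHom (algebraMap A (Localization.AtPrime (below (A := A) (B := B) n').asIdeal))]
    [IsLocalHom (algebraMap A (Localization.AtPrime n'.asIdeal))] :
    ∃ k : ℕ, Module.finrank (ResidueField A) (ResidueField (Localization.AtPrime n'.asIdeal)) =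
        Module.finrank (ResidueField A) (ResidueField (Localization.AtPrime (below (A := A) (B := B) n').asIdeal)) * k ∧
      ∀ x, Algebra.norm (ResidueField A) (ResidueField.map (locMap (A := A) (B := B) n') x) =
        Algebra.norm (ResidueField A) x ^ k := by
  set n := below (A := A) (B := B) n' with hn
  haveI : IsLocalHom (locMap (A := A) (B := B) n') := Localization.isLocalHom_localRingHom _ _ _ _
  letI : Algebra (ResidueField (Localization.AtPrime n.asIdeal)) (ResidueField (Localization.AtPrime n'.asIdeal)) :=
    (ResidueField.map (locMap (A := A) (B := B) n')).toAlgebra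
  haveI : IsScalarTower (ResidueField A) (ResidueField (Localization.AtPrime n.asIdeal))
      (ResidueField (Localization.AtPrime n'.asIdeal)) := by
    refine IsScalarTower.of_algebraMap_eq fun x ↦ ?_
    obtain ⟨a, rfl⟩ := residue_surjective x
    change residue _ (algebraMap A (Localization.AtPrime n'.asIdeal) a) =
      ResidueField.map _ (residue _ (algebraMap A (Localization.AtPrime n.asIdeal) a))
    rw [ResidueField.map_residue, IsScalarTower.algebraMap_apply A B (Localization.AtPrime n.asIdeal),
      Localization.localRingHom_to_map, ← IsScalarTower.algebraMap_apply A B B',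
      ← IsScalarTower.algebraMap_apply A B' (Localization.AtPrime n'.asIdeal)]
  haveI := finite_residue (A := A) n
  haveI := finite_residue (A := A) n'
  haveI : Module.Finite (ResidueField (Localization.AtPrime n.asIdeal)) (ResidueField (Localization.AtPrime n'.asIdeal)) :=
    Module.Finite.of_restrictScalars_finite (ResidueField A) _ _
  refine ⟨Module.finrank (ResidueField (Localization.AtPrime n.asIdeal)) (ResidueField (Localization.AtPrime n'.asIdeal)),
    (Module.finrank_mul_finrank _ _ _).symm, fun x ↦ ?_⟩
  change Algebra.norm (ResidueField A) (algebraMap (ResidueField (Localization.AtPrime n.asIdeal)) _ x) = _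
  rw [← Algebra.norm_norm (S := ResidueField (Localization.AtPrime n.asIdeal)), Algebra.norm_algebraMap, map_pow]

variable [IsNoetherianRing A] [Ring.KrullDimLE 1 A]

/-- the degree-weighted orders upstairs sum to the one downstairs -/
theorem sum_ord_below [Fintype (MaximalSpectrum B')] [DecidableEq (MaximalSpectrum B)]
    [∀ n : MaximalSpectrum B, IsLocalHom (algebraMap A (Localization.AtPrime n.asIdeal))]
    [∀ n : MaximalSpectrum B', IsLocalHom (algebraMap A (Localization.AtPrime n.asIdeal))]
    (hinj : Function.Injective (algebraMap B B'))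
    (hcoker : Module.length A (B' ⧸ LinearMap.range (IsScalarTower.toAlgHom A B B').toLinearMap) < ⊤)
    (n₀ : MaximalSpectrum B) (π : Localization.AtPrime n₀.asIdeal) (hπ : π ∈ nonZeroDivisors _)
    (hπ' : ∀ (n' : MaximalSpectrum B') (h : below (A := A) (B := B) n' = n₀),
      locMap (A := A) (B := B) n' (h ▸ π) ∈ nonZeroDivisors _) :
    ∀ π' : (n' : MaximalSpectrum B') → Localization.AtPrime n'.asIdeal,
      (∀ (n' : MaximalSpectrum B') (h : below (A := A) (B := B) n' = n₀),
        π' n' = locMap (A := A) (B := B) n' (h ▸ π)) →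
      ∑ n' ∈ Finset.univ.filter (fun n' ↦ below (A := A) (B := B) n' = n₀),
        Module.finrank (ResidueField A) (ResidueField (Localization.AtPrime n'.asIdeal)) *
          (Ring.ord (Localization.AtPrime n'.asIdeal) (π' n')).toNat =
      Module.finrank (ResidueField A) (ResidueField (Localization.AtPrime n₀.asIdeal)) *
        (Ring.ord (Localization.AtPrime n₀.asIdeal) π).toNat := by
  intro π' hπ'eq
  haveI : IsNoetherianRing B := IsNoetherianRing.of_finite A B
  haveI : IsNoetherianRing B' := IsNoetherianRing.of_finite A B'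
  haveI : Finite (MaximalSpectrum B) := (finite_maximalSpectrum (A := A)).1
  letI := Fintype.ofFinite (MaximalSpectrum B)
  haveI := fun n : MaximalSpectrum B ↦ krullDimLE_one_localization (A := A) n.asIdeal
  haveI := fun n : MaximalSpectrum B' ↦ krullDimLE_one_localization (A := A) n.asIdeal
  obtain ⟨P, hassoc, hother, hP⟩ := exists_global n₀ π hπ
  have hass' : ∀ (n' : MaximalSpectrum B') (h : below (A := A) (B := B) n' = n₀),
      Associated (algebraMap B' (Localization.AtPrime n'.asIdeal) (algebraMap B B' P)) (π' n') := fun n' h ↦ by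
    rw [hπ'eq n' h]
    subst h
    rw [← Localization.localRingHom_to_map _ _ (algebraMap B B') rfl]
    exact hassoc.map (locMap (A := A) (B := B) n')
  have hunit' : ∀ n' : MaximalSpectrum B', below (A := A) (B := B) n' ≠ n₀ →
      IsUnit (algebraMap B' (Localization.AtPrime n'.asIdeal) (algebraMap B B' P)) := fun n' h ↦ by
    rw [← Localization.localRingHom_to_map _ _ (algebraMap B B') rfl]
    exact (hother _ h).map (locMap (A := A) (B := B) n')
  have hP' : algebraMap B B' P ∈ nonZeroDivisors B' := mem_nonZeroDivisors_of_local _ fun n' ↦ by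
    by_cases h : below (A := A) (B := B) n' = n₀
    · obtain ⟨w, hw⟩ := (hass' n' h).symm
      rw [← hw, hπ'eq n' h]
      exact mul_mem (hπ' n' h) w.isUnit.mem_nonZeroDivisors
    · exact (hunit' n' h).mem_nonZeroDivisors
  have hlen : Module.length A (B ⧸ Ideal.span {P}) = Module.length A (B' ⧸ Ideal.span {algebraMap B B' P}) := by
    have h := length_coker_eq (IsScalarTower.toAlgHom A B B').toLinearMap hinj (LinearMap.mulLeft A P)
      (LinearMap.mulLeft A (algebraMap B B' P)) (LinearMap.ext fun b ↦ (map_mul (algebraMap B B') P b).symm)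
      (fun a b hab ↦ (mul_cancel_left_mem_nonZeroDivisors hP').mp hab) hcoker
    have e : ∀ {S : Type u} [CommRing S] [Algebra A S] (c : S),
        LinearMap.range (LinearMap.mulLeft A c) = (Ideal.span {c}).restrictScalars A := fun {S} _ _ c ↦ by
      ext z
      simp only [LinearMap.mem_range, Submodule.restrictScalars_mem, Ideal.mem_span_singleton', LinearMap.mulLeft_apply]
      exact ⟨fun ⟨y, hy⟩ ↦ ⟨y, by rw [mul_comm, hy]⟩, fun ⟨y, hy⟩ ↦ ⟨y, by rw [mul_comm, hy]⟩⟩
    rw [e, e] at h
    exact h
  have hf := length_quot_lt_top (A := A) P hP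
  have hf' : Module.length A (B' ⧸ Ideal.span {algebraMap B B' P}) < ⊤ := hlen ▸ hf
  rw [length_quot_eq_sum (A := A) P hf, length_quot_eq_sum (A := A) _ hf',
    Finset.sum_eq_single n₀ (fun n _ hn ↦ by rw [Ring.ord_of_isUnit (hother n hn), mul_zero])
      (fun h ↦ absurd (Finset.mem_univ _) h),
    ← Finset.sum_filter_add_sum_filter_not Finset.univ (fun n' ↦ below (A := A) (B := B) n' = n₀),
    Finset.sum_eq_zero (s := Finset.univ.filter fun n' ↦ ¬ below (A := A) (B := B) n' = n₀)
      (fun n' hn' ↦ by rw [Ring.ord_of_isUnit (hunit' n' (Finset.mem_filter.mp hn').2), mul_zero]),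
    add_zero, Ring.ord_eq_of_associated hassoc,
    Finset.sum_congr rfl (fun n' hn' ↦ by rw [Ring.ord_eq_of_associated (hass' n' (Finset.mem_filter.mp hn').2)])] at hlen
  have h2 := congrArg ENat.toNat hlen
  rw [ENat.toNat_mul, ENat.toNat_coe, ENat.toNat_sum] at h2
  · simp only [ENat.toNat_mul, ENat.toNat_coe] at h2
    exact h2.symm
  · intro n' hn'
    refine WithTop.mul_ne_top (ENat.coe_ne_top _) ?_
    rw [hπ'eq n' (Finset.mem_filter.mp hn').2]
    exact Ring.ord_ne_top (hπ' n' (Finset.mem_filter.mp hn').2)

end Groth.Agent.CycTameLib
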