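import Mathlib
import Groth.Agent.CycTameLib.Extend

/-!
# Independence of the value of a tame symbol from the data
-/

set_option autoImplicit false

universe u

open IsLocalRing Groth.Agent.CycAlgLib

namespace Groth.Agent.CycTameLib

variable {A : Type u} [CommRing A] [IsLocalRing A]

/-- `x` is a local factor of `(a, b)` at the maximal ideal `q` -/
def IsRaw {B : Type u} [CommRing B] [Algebra A B] (a b : A) (q : MaximalSpectrum B)
    (x : ResidueField (Localization.AtPrime q.asIdeal)) : Prop :=
  ∃ (π : Localization.AtPrime q.asIdeal) (u v : (Localization.AtPrime q.asIdeal)ˣ) (e₁ e₂ : ℕ),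
    π ∈ nonZeroDivisors _ ∧ algebraMap A (Localization.AtPrime q.asIdeal) a = (u : Localization.AtPrime q.asIdeal) * π ^ e₁ ∧
      algebraMap A (Localization.AtPrime q.asIdeal) b = (v : Localization.AtPrime q.asIdeal) * π ^ e₂ ∧
      x = raw π u v e₁ e₂

theorem isRaw_data {a b : A} (D : CycAlg.TameData A a b) (q : MaximalSpectrum D.B) :
    IsRaw a b q (raw (D.π q) (D.u₁ q) (D.u₂ q) (D.e₁ q) (D.e₂ q)) :=
  ⟨_, _, _, _, _, D.π_mem q, D.fac₁ q, D.fac₂ q, rfl⟩

theorem localFactor_eq {a b : A} (D : CycAlg.TameData A a b) (q : MaximalSpectrum D.B) :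
    D.localFactor q = (haveI := D.isLocalHom q
      Algebra.norm (ResidueField A) (raw (D.π q) (D.u₁ q) (D.u₂ q) (D.e₁ q) (D.e₂ q))) := by
  simp only [CycAlg.TameData.localFactor, raw, base, map_pow]

theorem mem_nonZeroDivisors_of_pow {R : Type u} [CommRing R] {x : R} {w : Rˣ} {e : ℕ} (he : e ≠ 0)
    (h : (w : R) * x ^ e ∈ nonZeroDivisors R) : x ∈ nonZeroDivisors R := by
  have h1 := (mul_mem_nonZeroDivisors.mp h).2
  obtain ⟨e, rfl⟩ := Nat.exists_eq_succ_of_ne_zero he
  rw [pow_succ] at h1
  exact (mul_mem_nonZeroDivisors.mp h1).2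

variable [IsNoetherianRing A] [Ring.KrullDimLE 1 A]
variable {B : Type u} [CommRing B] [Algebra A B] [Module.Finite A B]
variable {B' : Type u} [CommRing B'] [Algebra A B'] [Module.Finite A B'] [Algebra B B'] [IsScalarTower A B B']

theorem prod_norm_eq [Fintype (MaximalSpectrum B)] [Fintype (MaximalSpectrum B')]
    [∀ n : MaximalSpectrum B, IsLocalHom (algebraMap A (Localization.AtPrime n.asIdeal))]
    [∀ n : MaximalSpectrum B', IsLocalHom (algebraMap A (Localization.AtPrime n.asIdeal))]
    (hinj : Function.Injective (algebraMap B B'))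
    (hcoker : Module.length A (B' ⧸ LinearMap.range (IsScalarTower.toAlgHom A B B').toLinearMap) < ⊤)
    (a b : A) (x : ∀ n : MaximalSpectrum B, ResidueField (Localization.AtPrime n.asIdeal))
    (hx : ∀ n, IsRaw a b n (x n)) (x' : ∀ n : MaximalSpectrum B', ResidueField (Localization.AtPrime n.asIdeal))
    (hx' : ∀ n, IsRaw a b n (x' n))
    (ha : ∀ n : MaximalSpectrum B', algebraMap A (Localization.AtPrime n.asIdeal) a ∈ nonZeroDivisors _)
    (hb : ∀ n : MaximalSpectrum B', algebraMap A (Localization.AtPrime n.asIdeal) b ∈ nonZeroDivisors _) :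
    ∏ n', Algebra.norm (ResidueField A) (x' n') = ∏ n, Algebra.norm (ResidueField A) (x n) := by
  classical
  haveI : IsNoetherianRing B := IsNoetherianRing.of_finite A B
  haveI : IsNoetherianRing B' := IsNoetherianRing.of_finite A B'
  haveI := fun n : MaximalSpectrum B ↦ krullDimLE_one_localization (A := A) n.asIdeal
  haveI := fun n : MaximalSpectrum B' ↦ krullDimLE_one_localization (A := A) n.asIdeal
  haveI : ∀ n : MaximalSpectrum B, IsNoetherianRing (Localization.AtPrime n.asIdeal) := fun n ↦
    IsLocalization.isNoetherianRing n.asIdeal.primeCompl _ inferInstance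
  haveI : ∀ n : MaximalSpectrum B', IsNoetherianRing (Localization.AtPrime n.asIdeal) := fun n ↦
    IsLocalization.isNoetherianRing n.asIdeal.primeCompl _ inferInstance
  by_cases hab : IsUnit a ∧ IsUnit b
  · rw [Finset.prod_eq_one (fun n _ ↦ ?_), Finset.prod_eq_one (fun n _ ↦ ?_)]
    · obtain ⟨π, u, v, e₁, e₂, hπ, h1, h2, hxn⟩ := hx n
      rw [hxn, raw_eq_one_of_unit hπ (hab.1.map _) (hab.2.map _) h1 h2, map_one]
    · obtain ⟨π, u, v, e₁, e₂, hπ, h1, h2, hxn⟩ := hx' n
      rw [hxn, raw_eq_one_of_unit hπ (hab.1.map _) (hab.2.map _) h1 h2, map_one]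
  rw [← Finset.prod_fiberwise Finset.univ (below (A := A) (B := B))]
  refine Finset.prod_congr rfl fun n₀ _ ↦ ?_
  obtain ⟨π, u, v, e₁, e₂, hπ, h1, h2, hxn⟩ := hx n₀
  have hab₀ : ¬ (IsUnit (algebraMap A (Localization.AtPrime n₀.asIdeal) a) ∧
      IsUnit (algebraMap A (Localization.AtPrime n₀.asIdeal) b)) := fun h ↦
    hab ⟨isUnit_of_map_unit _ _ h.1, isUnit_of_map_unit _ _ h.2⟩
  obtain ⟨-, he⟩ := unit_of_isUnit_or hπ h1 h2 hab₀
  have hdata : ∀ (n' : MaximalSpectrum B') (h : below (A := A) (B := B) n' = n₀),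
      locMap (A := A) (B := B) n' (h ▸ π) ∈ nonZeroDivisors _ ∧ ∃ k : ℕ,
        Module.finrank (ResidueField A) (ResidueField (Localization.AtPrime n'.asIdeal)) =
          Module.finrank (ResidueField A) (ResidueField (Localization.AtPrime n₀.asIdeal)) * k ∧
        Algebra.norm (ResidueField A) (x' n') = Algebra.norm (ResidueField A) (base u v e₁ e₂) ^
          (k * (Ring.ord (Localization.AtPrime n'.asIdeal) (locMap (A := A) (B := B) n' (h ▸ π))).toNat) := by
    intro n' h
    subst h
    haveI : IsLocalHom (locMap (A := A) (B := B) n') := Localization.isLocalHom_localRingHom _ _ _ _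
    set f := locMap (A := A) (B := B) n'
    have hcomp : ∀ c : A, f (algebraMap A (Localization.AtPrime (below (A := A) (B := B) n').asIdeal) c) =
        algebraMap A (Localization.AtPrime n'.asIdeal) c := fun c ↦ by
      rw [IsScalarTower.algebraMap_apply A B (Localization.AtPrime (below (A := A) (B := B) n').asIdeal),
        Localization.localRingHom_to_map, ← IsScalarTower.algebraMap_apply A B B',
        ← IsScalarTower.algebraMap_apply A B' (Localization.AtPrime n'.asIdeal)]
    have h1' : algebraMap A (Localization.AtPrime n'.asIdeal) a =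
        ((Units.map f.toMonoidHom u : (Localization.AtPrime n'.asIdeal)ˣ) : Localization.AtPrime n'.asIdeal) * f π ^ e₁ := by
      rw [← hcomp, h1, map_mul, map_pow]; rfl
    have h2' : algebraMap A (Localization.AtPrime n'.asIdeal) b =
        ((Units.map f.toMonoidHom v : (Localization.AtPrime n'.asIdeal)ˣ) : Localization.AtPrime n'.asIdeal) * f π ^ e₂ := by
      rw [← hcomp, h2, map_mul, map_pow]; rfl
    have hfπ : f π ∈ nonZeroDivisors _ := by
      rcases he with he | he
      · exact mem_nonZeroDivisors_of_pow he (h1' ▸ ha n')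
      · exact mem_nonZeroDivisors_of_pow he (h2' ▸ hb n')
    refine ⟨hfπ, ?_⟩
    obtain ⟨k, hk, hnorm⟩ := norm_residue_map (A := A) (B := B) n'
    refine ⟨k, hk, ?_⟩
    obtain ⟨π', u', v', f₁, f₂, hπ', g1, g2, hxn'⟩ := hx' n'
    rw [hxn', raw_invariant hπ' hfπ g1 g2 h1' h2', raw, pow_mul]
    rw [map_pow, ← hnorm]
    congr 2
    simp only [base, map_mul, map_pow, map_inv₀, map_neg, map_one, Units.coe_map]
    rfl
  have hπ' : ∀ (n' : MaximalSpectrum B') (h : below (A := A) (B := B) n' = n₀),
      locMap (A := A) (B := B) n' (h ▸ π) ∈ nonZeroDivisors _ := fun n' h ↦ (hdata n' h).1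
  let π' : (n' : MaximalSpectrum B') → Localization.AtPrime n'.asIdeal := fun n' ↦
    if h : below (A := A) (B := B) n' = n₀ then locMap (A := A) (B := B) n' (h ▸ π) else 1
  have hsum := sum_ord_below (A := A) hinj hcoker n₀ π hπ hπ' π' (fun n' h ↦ dif_pos h)
  choose k hk hnorm using fun (n' : MaximalSpectrum B') (h : below (A := A) (B := B) n' = n₀) ↦ (hdata n' h).2
  let k' : MaximalSpectrum B' → ℕ := fun n' ↦ if h : below (A := A) (B := B) n' = n₀ then k n' h else 0
  have hmem : ∀ n' ∈ Finset.univ.filter (fun n' ↦ below (A := A) (B := B) n' = n₀),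
      Algebra.norm (ResidueField A) (x' n') = Algebra.norm (ResidueField A) (base u v e₁ e₂) ^
          (k' n' * (Ring.ord (Localization.AtPrime n'.asIdeal) (π' n')).toNat) := fun n' hn' ↦ by
    simp only [k', π', dif_pos (Finset.mem_filter.mp hn').2]
    exact hnorm n' (Finset.mem_filter.mp hn').2
  rw [Finset.prod_congr rfl hmem, Finset.prod_pow_eq_pow_sum, hxn, raw, map_pow]
  congr 1
  refine Nat.eq_of_mul_eq_mul_left (finrank_residue_pos (A := A) n₀) ?_
  rw [← hsum, Finset.mul_sum]
  refine Finset.sum_congr rfl fun n' hn' ↦ ?_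
  rw [← mul_assoc]
  congr 1
  simp only [k', dif_pos (Finset.mem_filter.mp hn').2]
  exact (hk n' _).symm

end Groth.Agent.CycTameLib
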