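import Mathlib
import Groth.Agent.CycTameLib.Value

/-!
# Compositum of two finite extensions inside the total ring of fractions, and the value of a tame symbol
-/

set_option autoImplicit false

universe u

open IsLocalRing Groth.Agent.CycAlgLib

namespace Groth.Agent.CycTameLib

variable {A : Type u} [CommRing A] [IsLocalRing A] [IsNoetherianRing A] [Ring.KrullDimLE 1 A]

theorem exists_pow_mem {t : A} (ht : t ∈ nonZeroDivisors A) (k : ℕ) :
    ∃ N : ℕ, maximalIdeal A ^ N ≤ Ideal.span {t ^ k} := by
  refine Ideal.exists_pow_le_of_le_radical_of_fg ?_ (IsNoetherian.noetherian _)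
  rw [Ideal.radical_eq_sInf]
  refine le_sInf fun q ⟨hq, hqp⟩ ↦ ?_
  haveI := hqp
  have htq : t ∈ q := hqp.mem_of_pow_mem k (hq (Ideal.mem_span_singleton_self _))
  rcases Ring.krullDimLE_one_iff.mp ‹_› q hqp with h | h
  · exact absurd ht (Set.disjoint_left.mp (Ideal.disjoint_nonZeroDivisors_of_mem_minimalPrimes h) htq)
  · exact (IsLocalRing.eq_maximalIdeal h).ge

theorem isUnit_away {t c : A} (ht : t ∈ maximalIdeal A) (hc : c ∈ nonZeroDivisors A) :
    IsUnit (algebraMap A (Localization.Away t) c) := by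
  obtain ⟨N, hN⟩ := exists_pow_mem hc 1
  obtain ⟨y, hy⟩ := Ideal.mem_span_singleton.mp (hN (Ideal.pow_mem_pow ht N))
  refine isUnit_of_mul_isUnit_left (y := algebraMap A _ y) ?_
  rw [← map_mul, ← show t ^ N = c * y by rw [hy, pow_one], map_pow]
  exact (IsLocalization.Away.algebraMap_isUnit t).pow N

/-- an extension with tame data embeds into the total ring of fractions -/
theorem exists_embedding {B : Type u} [CommRing B] [Algebra A B] (hB : CycAlg.IsFinExt A B (maximalIdeal A)) {t : A}
    (ht : t ∈ maximalIdeal A) (htA : t ∈ nonZeroDivisors A) (htB : algebraMap A B t ∈ nonZeroDivisors B) :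
    ∃ ψ : B →ₐ[A] Localization.Away t, Function.Injective ψ := by
  obtain ⟨hinj, -, N, hN⟩ := hB
  choose r hr using fun b : B ↦ hN (t ^ N) (Ideal.pow_mem_pow ht N) b
  have hr' : ∀ b, algebraMap A B (r b) = algebraMap A B (t ^ N) * b := fun b ↦ (hr b).trans (Algebra.smul_def _ _)
  have hreg : ∀ x y : B, algebraMap A B t ^ N * x = algebraMap A B t ^ N * y → x = y := fun x y h ↦
    (mul_cancel_left_mem_nonZeroDivisors (pow_mem htB N)).mp h
  have hu : IsUnit (algebraMap A (Localization.Away t) (t ^ N)) := by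
    rw [map_pow]; exact (IsLocalization.Away.algebraMap_isUnit t).pow N
  let ψ₀ : B → Localization.Away t := fun b ↦ ↑hu.unit⁻¹ * algebraMap A _ (r b)
  have key : ∀ b c, r b = t ^ N * c → ψ₀ b = algebraMap A _ c := fun b c h ↦ by
    simp only [ψ₀]
    rw [h, map_mul, ← mul_assoc, hu.val_inv_mul, one_mul]
  refine ⟨{ toFun := ψ₀, map_one' := ?_, map_mul' := fun x y ↦ ?_, map_zero' := ?_, map_add' := fun x y ↦ ?_, commutes' := fun c ↦ ?_ }, ?_⟩
  · rw [key 1 1 (hinj (by rw [hr', mul_one, mul_one])), map_one]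
  · simp only [ψ₀]
    have h : r x * r y = t ^ N * r (x * y) := hinj (by simp only [map_mul, hr']; ring)
    calc (↑hu.unit⁻¹ : Localization.Away t) * algebraMap A _ (r (x * y))
        = ↑hu.unit⁻¹ * (↑hu.unit⁻¹ * (algebraMap A _ (t ^ N) * algebraMap A _ (r (x * y)))) := by
          congr 1
          rw [← mul_assoc, hu.val_inv_mul, one_mul]
      _ = _ := by rw [← map_mul, ← h, map_mul]; ring
  · rw [key 0 0 (hinj (by rw [hr', mul_zero, mul_zero, map_zero])), map_zero]
  · simp only [ψ₀]
    rw [show r (x + y) = r x + r y from hinj (by rw [map_add, hr', hr', hr', mul_add]), map_add, mul_add]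
  · exact key _ c (hinj (by rw [hr', map_mul]))
  · intro x y h
    have h1 : algebraMap A (Localization.Away t) (r x) = algebraMap A _ (r y) := (Units.mul_right_inj _).mp h
    have h2 := IsLocalization.injective (Localization.Away t) (Submonoid.powers_le.mpr htA) h1
    refine hreg x y ?_
    rw [← map_pow, ← hr', ← hr', h2]

theorem length_coker_lt_top {B' : Type u} [CommRing B'] [Algebra A B'] [Module.Finite A B']
    (hB' : CycAlg.IsFinExt A B' (maximalIdeal A)) (S : Submodule A B') (hS : ∀ c : A, algebraMap A B' c ∈ S) :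
    Module.length A (B' ⧸ S) < ⊤ := by
  obtain ⟨-, -, N, hN⟩ := hB'
  refine length_lt_top_of_support_subset fun p hp ↦ ?_
  rw [Module.mem_support_iff_of_finite] at hp
  have hle : maximalIdeal A ^ N ≤ p.asIdeal := fun r hr ↦ hp (Module.mem_annihilator.mpr fun m ↦ by
    obtain ⟨b, rfl⟩ := Submodule.Quotient.mk_surjective _ m
    obtain ⟨c, hc⟩ := hN r hr b
    exact (Submodule.Quotient.mk_eq_zero _).mpr (show r • b ∈ S from hc ▸ hS c))
  rcases Nat.eq_zero_or_pos N with h | h
  · subst h
    rw [pow_zero, Ideal.one_eq_top, top_le_iff] at hle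
    exact absurd hle p.2.ne_top
  · exact PrimeSpectrum.ext (((maximalIdeal.isMaximal A).eq_of_le p.2.ne_top
      ((Ideal.IsPrime.pow_le_iff h.ne').mp hle)).symm)

/-- the value of any two choices of tame data agree -/
theorem value_eq {a b : A} (ha : a ∈ nonZeroDivisors A) (hb : b ∈ nonZeroDivisors A) (D D' : CycAlg.TameData A a b) :
    D.value = D'.value := by
  classical
  have hval : ∀ D : CycAlg.TameData A a b, IsUnit a → IsUnit b → D.value = 1 := fun D h1 h2 ↦ by
    haveI := D.isFinExt.2.1
    haveI : IsNoetherianRing D.B := IsNoetherianRing.of_finite A D.B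
    refine finprod_eq_one_of_forall_eq_one fun q ↦ ?_
    haveI := krullDimLE_one_localization (A := A) q.asIdeal
    haveI : IsNoetherianRing (Localization.AtPrime q.asIdeal) :=
      IsLocalization.isNoetherianRing q.asIdeal.primeCompl _ inferInstance
    haveI := D.isLocalHom q
    rw [localFactor_eq, raw_eq_one_of_unit (D.π_mem q) (h1.map _) (h2.map _) (D.fac₁ q) (D.fac₂ q), map_one]
  by_cases hab : IsUnit a ∧ IsUnit b
  · rw [hval D hab.1 hab.2, hval D' hab.1 hab.2]
  obtain ⟨t, ht, htA, htab⟩ : ∃ t ∈ maximalIdeal A, t ∈ nonZeroDivisors A ∧ (t = a ∨ t = b) := by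
    by_cases h : IsUnit a
    · exact ⟨b, (mem_maximalIdeal b).mpr fun h' ↦ hab ⟨h, h'⟩, hb, .inr rfl⟩
    · exact ⟨a, (mem_maximalIdeal a).mpr h, ha, .inl rfl⟩
  have hnzd : ∀ D : CycAlg.TameData A a b, algebraMap A D.B t ∈ nonZeroDivisors D.B := fun D ↦
    mem_nonZeroDivisors_of_local _ fun n ↦ by
      rw [← IsScalarTower.algebraMap_apply]
      rcases htab with rfl | rfl
      · rw [D.fac₁ n]; exact mul_mem (D.u₁ n).isUnit.mem_nonZeroDivisors (pow_mem (D.π_mem n) _)
      · rw [D.fac₂ n]; exact mul_mem (D.u₂ n).isUnit.mem_nonZeroDivisors (pow_mem (D.π_mem n) _)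
  obtain ⟨ψ, hψ⟩ := exists_embedding D.isFinExt ht htA (hnzd D)
  obtain ⟨ψ', hψ'⟩ := exists_embedding D'.isFinExt ht htA (hnzd D')
  haveI := D.isFinExt.2.1
  haveI := D'.isFinExt.2.1
  obtain ⟨s, hs⟩ := (Module.finite_def.mp (inferInstance : Module.Finite A D.B))
  obtain ⟨s', hs'⟩ := (Module.finite_def.mp (inferInstance : Module.Finite A D'.B))
  let G : Set (Localization.Away t) := ψ '' s ∪ ψ' '' s'
  let B' := Algebra.adjoin A G
  have hGfin : G.Finite := (s.finite_toSet.image _).union (s'.finite_toSet.image _)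
  have hGint : ∀ y ∈ G, IsIntegral A y := by
    rintro y (⟨x, -, rfl⟩ | ⟨x, -, rfl⟩) <;> exact (Algebra.IsIntegral.isIntegral x).map _
  have hfg : B'.toSubmodule.FG := fg_adjoin_of_finite hGfin hGint
  haveI : Module.Finite A B' := Module.Finite.iff_fg.mpr hfg
  have hmem : ∀ x, ψ x ∈ B' := fun x ↦ by
    have hx : x ∈ Submodule.span A (s : Set D.B) := hs.ge Submodule.mem_top
    induction hx using Submodule.span_induction with
    | mem y hy => exact Algebra.subset_adjoin (.inl ⟨y, hy, rfl⟩)
    | zero => rw [map_zero]; exact zero_mem _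
    | add y z _ _ hy hz => rw [map_add]; exact add_mem hy hz
    | smul c y _ hy => rw [map_smul]; exact Subalgebra.smul_mem _ hy c
  have hmem' : ∀ x, ψ' x ∈ B' := fun x ↦ by
    have hx : x ∈ Submodule.span A (s' : Set D'.B) := hs'.ge Submodule.mem_top
    induction hx using Submodule.span_induction with
    | mem y hy => exact Algebra.subset_adjoin (.inr ⟨y, hy, rfl⟩)
    | zero => rw [map_zero]; exact zero_mem _
    | add y z _ _ hy hz => rw [map_add]; exact add_mem hy hz
    | smul c y _ hy => rw [map_smul]; exact Subalgebra.smul_mem _ hy c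
  have hBinj : Function.Injective (algebraMap A B') := fun c c' h ↦
    IsLocalization.injective (Localization.Away t) (Submonoid.powers_le.mpr htA) (congrArg Subtype.val h)
  have hB' : CycAlg.IsFinExt A B' (maximalIdeal A) := by
    refine ⟨hBinj, inferInstance, ?_⟩
    obtain ⟨G', hG'⟩ := hfg
    obtain ⟨m, hm⟩ := IsLocalization.exist_integer_multiples_of_finset (Submonoid.powers t) G'
    obtain ⟨k, hk⟩ := m.2
    obtain ⟨N, hN⟩ := exists_pow_mem htA k
    have hall : ∀ y ∈ Submodule.span A (G' : Set (Localization.Away t)),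
        ∃ c, algebraMap A (Localization.Away t) c = (m : A) • y := by
      intro y hy
      induction hy using Submodule.span_induction with
      | mem y hy => exact hm y hy
      | zero => exact ⟨0, by rw [map_zero, smul_zero]⟩
      | add y z _ _ hy hz =>
        obtain ⟨c, hc⟩ := hy; obtain ⟨c', hc'⟩ := hz
        exact ⟨c + c', by rw [map_add, hc, hc', smul_add]⟩
      | smul d y _ hy =>
        obtain ⟨c, hc⟩ := hy
        exact ⟨d * c, by rw [map_mul, hc, ← Algebra.smul_def, smul_comm]⟩
    refine ⟨N, fun r hr y ↦ ?_⟩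
    obtain ⟨d, rfl⟩ := Ideal.mem_span_singleton.mp (hN hr)
    obtain ⟨c, hc⟩ := hall y (hG'.ge y.2)
    refine ⟨d * c, Subtype.ext ?_⟩
    change algebraMap A (Localization.Away t) (d * c) = (t ^ k * d) • (y : Localization.Away t)
    rw [map_mul, hc, ← Algebra.smul_def, show t ^ k = (m : A) from hk, mul_comm (m : A), mul_smul]
  haveI hfinB' : Finite (MaximalSpectrum B') := (finite_maximalSpectrum (A := A)).1
  letI := Fintype.ofFinite (MaximalSpectrum B')
  haveI hlh : ∀ n : MaximalSpectrum B', IsLocalHom (algebraMap A (Localization.AtPrime n.asIdeal)) := isLocalHom_maximal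
  have hcnzd : ∀ c ∈ nonZeroDivisors A, ∀ n : MaximalSpectrum B',
      algebraMap A (Localization.AtPrime n.asIdeal) c ∈ nonZeroDivisors _ := fun c hc n ↦ by
    rw [IsScalarTower.algebraMap_apply A B', mem_nonZeroDivisors_iff_right]
    intro z hz
    obtain ⟨w, s, rfl⟩ := IsLocalization.exists_mk'_eq n.asIdeal.primeCompl z
    rw [IsLocalization.mk'_eq_zero_iff]
    have h2 : algebraMap B' (Localization.AtPrime n.asIdeal) (w * algebraMap A B' c) = 0 := by
      rw [map_mul, ← IsLocalization.mk'_spec' (Localization.AtPrime n.asIdeal) w s, mul_assoc, hz, mul_zero]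
    obtain ⟨p, hp⟩ := (IsLocalization.map_eq_zero_iff n.asIdeal.primeCompl _ _).mp h2
    refine ⟨p, Subtype.ext ((isUnit_away ht hc).mul_left_eq_zero.mp ?_)⟩
    have := congrArg Subtype.val hp
    simpa [mul_assoc] using this
  -- both sides agree with the factors on the compositum
  have key : ∀ (E : CycAlg.TameData A a b) (θ : E.B →ₐ[A] Localization.Away t) (hθ : Function.Injective θ)
      (hθm : ∀ x, θ x ∈ B'), ∃ x' : ∀ n : MaximalSpectrum B', ResidueField (Localization.AtPrime n.asIdeal),
        (∀ n, IsRaw a b n (x' n)) := by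
    intro E θ hθ hθm
    haveI := E.isFinExt.2.1
    letI : Algebra E.B B' := ((θ.codRestrict B' hθm) : E.B →+* B').toAlgebra
    haveI : IsScalarTower A E.B B' := IsScalarTower.of_algebraMap_eq fun c ↦ ((θ.codRestrict B' hθm).commutes c).symm
    haveI : IsNoetherianRing E.B := IsNoetherianRing.of_finite A E.B
    haveI : IsNoetherianRing B' := IsNoetherianRing.of_finite A B'
    have : ∀ n : MaximalSpectrum B', ∃ z, IsRaw a b n z := fun n ↦ by
      haveI := E.isLocalHom (below (A := A) (B := E.B) n)
      haveI := krullDimLE_one_localization (A := A) (below (A := A) (B := E.B) n).asIdeal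
      haveI : IsNoetherianRing (Localization.AtPrime (below (A := A) (B := E.B) n).asIdeal) :=
        IsLocalization.isNoetherianRing (below (A := A) (B := E.B) n).asIdeal.primeCompl _ inferInstance
      set q := below (A := A) (B := E.B) n
      let f := locMap (A := A) (B := E.B) n
      obtain ⟨-, he⟩ := unit_of_isUnit_or (E.π_mem q) (E.fac₁ q) (E.fac₂ q)
        (fun h ↦ hab ⟨isUnit_of_map_unit _ _ h.1, isUnit_of_map_unit _ _ h.2⟩)
      have hcomp : ∀ c : A, f (algebraMap A (Localization.AtPrime q.asIdeal) c) =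
          algebraMap A (Localization.AtPrime n.asIdeal) c := fun c ↦ by
        rw [IsScalarTower.algebraMap_apply A E.B (Localization.AtPrime q.asIdeal),
          Localization.localRingHom_to_map, ← IsScalarTower.algebraMap_apply A E.B B',
          ← IsScalarTower.algebraMap_apply A B' (Localization.AtPrime n.asIdeal)]
      have g1 : algebraMap A (Localization.AtPrime n.asIdeal) a =
          ((Units.map f.toMonoidHom (E.u₁ q) : (Localization.AtPrime n.asIdeal)ˣ) : Localization.AtPrime n.asIdeal) * f (E.π q) ^ E.e₁ q := by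
        rw [← hcomp, E.fac₁ q, map_mul, map_pow]; rfl
      have g2 : algebraMap A (Localization.AtPrime n.asIdeal) b =
          ((Units.map f.toMonoidHom (E.u₂ q) : (Localization.AtPrime n.asIdeal)ˣ) : Localization.AtPrime n.asIdeal) * f (E.π q) ^ E.e₂ q := by
        rw [← hcomp, E.fac₂ q, map_mul, map_pow]; rfl
      refine ⟨_, f (E.π q), _, _, _, _, ?_, g1, g2, rfl⟩
      rcases he with he | he
      · exact mem_nonZeroDivisors_of_pow he (g1 ▸ hcnzd a ha n)
      · exact mem_nonZeroDivisors_of_pow he (g2 ▸ hcnzd b hb n)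
    choose x' hx' using this
    exact ⟨x', hx'⟩
  obtain ⟨x', hx'⟩ := key D ψ hψ hmem
  have conc : ∀ (E : CycAlg.TameData A a b) (θ : E.B →ₐ[A] Localization.Away t) (hθ : Function.Injective θ)
      (hθm : ∀ x, θ x ∈ B'), ∏ n, Algebra.norm (ResidueField A) (x' n) = E.value := by
    intro E θ hθ hθm
    haveI := E.isFinExt.2.1
    letI : Algebra E.B B' := ((θ.codRestrict B' hθm) : E.B →+* B').toAlgebra
    haveI : IsScalarTower A E.B B' := IsScalarTower.of_algebraMap_eq fun c ↦ ((θ.codRestrict B' hθm).commutes c).symm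
    haveI : Finite (MaximalSpectrum E.B) := (finite_maximalSpectrum (A := A)).1
    letI := Fintype.ofFinite (MaximalSpectrum E.B)
    haveI := E.isLocalHom
    rw [CycAlg.TameData.value, finprod_eq_prod_of_fintype, Finset.prod_congr rfl fun q _ ↦ localFactor_eq E q]
    exact prod_norm_eq (B := E.B) (fun p q h ↦ hθ (congrArg Subtype.val h))
      (length_coker_lt_top hB' _ fun c ↦ ⟨algebraMap A E.B c, (θ.codRestrict B' hθm).commutes c⟩) a b _
      (isRaw_data E) x' hx' (hcnzd a ha) (hcnzd b hb)
  rw [← conc D ψ hψ hmem, conc D' ψ' hψ' hmem']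

end Groth.Agent.CycTameLib
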