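import Mathlib
import Groth.Agent.CycTameLib.Compositum

/-!
# The laws of the tame symbol
-/

set_option autoImplicit false

universe u

open IsLocalRing Groth.Agent.CycAlgLib

namespace Groth.Agent.CycTameLib

section Base

variable {R : Type u} [CommRing R] [IsLocalRing R]

theorem base_mul_left (u u' v : Rˣ) (e e' f : ℕ) : base (u * u') v (e + e') f = base u v e f * base u' v e' f := by
  have hv := residue_ne_zero' v
  simp only [base, Units.val_mul, map_mul, mul_pow, add_mul, pow_add, mul_inv]
  ring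

theorem base_mul_right (u v v' : Rˣ) (e f f' : ℕ) : base u (v * v') e (f + f') = base u v e f * base u v' e f' := by
  simp only [base, Units.val_mul, map_mul, mul_pow, mul_add, pow_add, mul_inv]
  ring

theorem base_self (u : Rˣ) (e : ℕ) : base u u e e = (-1) ^ e := by
  have hu := residue_ne_zero' u
  simp only [base]
  rw [mul_assoc, mul_inv_cancel₀ (pow_ne_zero _ hu), mul_one, ← pow_two, pow_two]
  have := neg_one_pow_mul_self (S := ResidueField R) e 1
  simpa using this

theorem base_unit (u v : Rˣ) (f : ℕ) : base u v 0 f = residue R (u : R) ^ f := by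
  simp [base]

variable [IsNoetherianRing R] [Ring.KrullDimLE 1 R]

theorem exponent_eq {π : R} (hπ : π ∈ nonZeroDivisors R) (hnu : ¬ IsUnit π) {w w' : Rˣ} {i j : ℕ}
    (h : (w : R) * π ^ i = (w' : R) * π ^ j) : i = j := by
  have h1 := congrArg (fun z ↦ (Ring.ord R z).toNat) h
  simp only [ord_pow_toNat hπ] at h1
  exact Nat.eq_of_mul_eq_mul_right (Nat.pos_of_ne_zero fun h0 ↦ hnu ((ord_toNat_eq_zero_iff hπ).mp h0)) h1

/-- the Steinberg-type identity at one parameter -/
theorem base_steinberg {π : R} (hπ : π ∈ nonZeroDivisors R) (hnu : ¬ IsUnit π) {u v w : Rˣ} {e f g : ℕ}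
    (h : (v : R) * π ^ f - (u : R) * π ^ e = (w : R) * π ^ g) :
    base u w e g * base v v f f = base v w f g * base u v e f := by
  have hu := residue_ne_zero' u
  have hv := residue_ne_zero' v
  have hw := residue_ne_zero' w
  have hπm : π ∈ maximalIdeal R := (mem_maximalIdeal π).mpr hnu
  have hreg := fun (i : ℕ) {x y : R} (e : x * π ^ i = y * π ^ i) ↦
    (mul_cancel_right_mem_nonZeroDivisors (pow_mem hπ i)).mp e
  rw [base_self]
  rcases lt_trichotomy e f with hlt | heq | hgt
  · obtain ⟨d, hd, rfl⟩ : ∃ d, 0 < d ∧ f = d + e := ⟨f - e, by omega, by omega⟩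
    obtain ⟨w', hw'⟩ : IsUnit ((v : R) * π ^ d - u) := by
      by_contra hh
      have := sub_mem (Ideal.mul_mem_left _ (v : R) (Ideal.pow_mem_of_mem _ hπm d hd)) ((mem_maximalIdeal _).mpr hh)
      rw [sub_sub_cancel] at this
      exact (mem_maximalIdeal _).mp this u.isUnit
    have hwπ : (w : R) * π ^ g = (w' : R) * π ^ e := by rw [← h, hw', pow_add]; ring
    obtain rfl := exponent_eq hπ hnu hwπ
    have hres : residue R (w : R) = -residue R (u : R) := by
      rw [hreg _ hwπ, hw', map_sub, map_mul, map_pow, (residue_eq_zero_iff π).mpr hπm, zero_pow hd.ne', mul_zero, zero_sub]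
    simp only [base, hres]
    rw [neg_pow (residue R (u : R)), neg_pow (residue R (u : R))]
    field_simp
    rw [show (-1 : ResidueField R) ^ (g * g) = (-1) ^ g by simpa using neg_one_pow_mul_self (S := ResidueField R) g 1]
    rcases neg_one_pow_eq_or (ResidueField R) g with h1 | h1 <;>
      rcases neg_one_pow_eq_or (ResidueField R) d with h2 | h2 <;>
      simp [pow_add, pow_mul, mul_add, add_mul, h1, h2]
  · subst heq
    have hcase : g = e ∨ residue R (u : R) = residue R (v : R) := by
      by_cases hh : IsUnit ((v : R) - u)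
      · left
        exact exponent_eq hπ hnu (w := w) (w' := hh.unit) (by rw [← h, IsUnit.unit_spec]; ring)
      · right
        have := (residue_eq_zero_iff _).mpr ((mem_maximalIdeal _).mpr hh)
        rw [map_sub, sub_eq_zero] at this
        exact this.symm
    simp only [base]
    rcases hcase with rfl | hres
    · field_simp
      rw [show (-1 : ResidueField R) ^ (g * g) = (-1) ^ g by simpa using neg_one_pow_mul_self (S := ResidueField R) g 1]
    · rw [hres]
      field_simp
      rw [show (-1 : ResidueField R) ^ (e * e) = (-1) ^ e by simpa using neg_one_pow_mul_self (S := ResidueField R) e 1]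
  · obtain ⟨d, hd, rfl⟩ : ∃ d, 0 < d ∧ e = d + f := ⟨e - f, by omega, by omega⟩
    obtain ⟨w', hw'⟩ : IsUnit ((v : R) - u * π ^ d) := by
      by_contra hh
      have := add_mem ((mem_maximalIdeal _).mpr hh) (Ideal.mul_mem_left _ (u : R) (Ideal.pow_mem_of_mem _ hπm d hd))
      rw [sub_add_cancel] at this
      exact (mem_maximalIdeal _).mp this v.isUnit
    have hwπ : (w : R) * π ^ g = (w' : R) * π ^ f := by rw [← h, hw', pow_add]; ring
    obtain rfl := exponent_eq hπ hnu hwπ
    have hres : residue R (w : R) = residue R (v : R) := by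
      rw [hreg _ hwπ, hw', map_sub, map_mul, map_pow, (residue_eq_zero_iff π).mpr hπm, zero_pow hd.ne', mul_zero, sub_zero]
    simp only [base, hres]
    field_simp
    rw [show (-1 : ResidueField R) ^ (g * g) = (-1) ^ g by simpa using neg_one_pow_mul_self (S := ResidueField R) g 1]

end Base

variable {A : Type u} [CommRing A] [IsLocalRing A] [IsNoetherianRing A] [Ring.KrullDimLE 1 A]

theorem tameSymbol_eq_value {a b : A} (ha : a ∈ nonZeroDivisors A) (hb : b ∈ nonZeroDivisors A)
    (D : CycAlg.TameData A a b) : CycAlg.tameSymbol A a b = D.value := by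
  unfold CycAlg.tameSymbol
  rw [dif_pos ⟨D⟩]
  exact value_eq ha hb _ D

/-- the symbol computed in a given extension with given parameters -/
theorem tameSymbol_eq_prod {a b : A} (ha : a ∈ nonZeroDivisors A) (hb : b ∈ nonZeroDivisors A) {B : Type u}
    [CommRing B] [Algebra A B] (hB : CycAlg.IsFinExt A B (maximalIdeal A)) [Fintype (MaximalSpectrum B)]
    [hlh : ∀ q : MaximalSpectrum B, IsLocalHom (algebraMap A (Localization.AtPrime q.asIdeal))]
    (π : ∀ q : MaximalSpectrum B, Localization.AtPrime q.asIdeal) (hπ : ∀ q, π q ∈ nonZeroDivisors _)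
    (u v : ∀ q : MaximalSpectrum B, (Localization.AtPrime q.asIdeal)ˣ) (e f : MaximalSpectrum B → ℕ)
    (h1 : ∀ q, algebraMap A (Localization.AtPrime q.asIdeal) a = (u q : Localization.AtPrime q.asIdeal) * π q ^ e q)
    (h2 : ∀ q, algebraMap A (Localization.AtPrime q.asIdeal) b = (v q : Localization.AtPrime q.asIdeal) * π q ^ f q) :
    CycAlg.tameSymbol A a b = ∏ q, Algebra.norm (ResidueField A) (raw (π q) (u q) (v q) (e q) (f q)) := by
  let D : CycAlg.TameData A a b := { B := B, isFinExt := hB, isLocalHom := hlh, π := π, π_mem := hπ, u₁ := u, u₂ := v, e₁ := e, e₂ := f, fac₁ := h1, fac₂ := h2 }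
  rw [tameSymbol_eq_value ha hb D, CycAlg.TameData.value]
  rw [finprod_congr (localFactor_eq D), finprod_eq_prod_of_fintype]

/-- everything needed at once: an extension with parameters for a finite family -/
theorem exists_common {n : ℕ} (hA : ringKrullDim A = 1) (a : Fin n → A) (ha : ∀ i, a i ∈ nonZeroDivisors A) :
    ∃ (B : Type u) (_ : CommRing B) (_ : Algebra A B) (_ : CycAlg.IsFinExt A B (maximalIdeal A))
      (π : ∀ q : MaximalSpectrum B, Localization.AtPrime q.asIdeal)
      (v : ∀ q : MaximalSpectrum B, Fin n → (Localization.AtPrime q.asIdeal)ˣ) (e : MaximalSpectrum B → Fin n → ℕ),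
      (∀ q, π q ∈ nonZeroDivisors _) ∧
      ∀ q i, algebraMap A (Localization.AtPrime q.asIdeal) (a i) = (v q i : Localization.AtPrime q.asIdeal) * π q ^ e q i := by
  obtain ⟨B, _, _, hB, hq⟩ := exists_params hA a ha
  choose π hπ hv using hq
  choose v e hve using hv
  exact ⟨B, inferInstance, inferInstance, hB, π, v, e, hπ, hve⟩

theorem tameSymbol_ne_zero (hA : ringKrullDim A = 1) {a b : A} (ha : a ∈ nonZeroDivisors A)
    (hb : b ∈ nonZeroDivisors A) : CycAlg.tameSymbol A a b ≠ 0 := by
  obtain ⟨D⟩ := nonempty_tameData hA a b ha hb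
  rw [tameSymbol_eq_value ha hb D, CycAlg.TameData.value]
  haveI := D.isFinExt.2.1
  haveI : Finite (MaximalSpectrum D.B) := (finite_maximalSpectrum (A := A)).1
  letI := Fintype.ofFinite (MaximalSpectrum D.B)
  rw [finprod_eq_prod_of_fintype, Finset.prod_ne_zero_iff]
  intro q _
  haveI := D.isLocalHom q
  haveI := finite_residue (A := A) q
  rw [localFactor_eq]
  exact Algebra.norm_ne_zero_iff.mpr (pow_ne_zero _ (base_ne_zero _ _ _ _))

theorem sum_deg_ord {B : Type u} [CommRing B] [Algebra A B] (hB : CycAlg.IsFinExt A B (maximalIdeal A))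
    [Fintype (MaximalSpectrum B)] [∀ q : MaximalSpectrum B, IsLocalHom (algebraMap A (Localization.AtPrime q.asIdeal))]
    {b : A} (hb : b ∈ nonZeroDivisors A)
    (hbB : ∀ q : MaximalSpectrum B, algebraMap A (Localization.AtPrime q.asIdeal) b ∈ nonZeroDivisors _) :
    ∑ q : MaximalSpectrum B, Module.finrank (ResidueField A) (ResidueField (Localization.AtPrime q.asIdeal)) *
      (Ring.ord (Localization.AtPrime q.asIdeal) (algebraMap A (Localization.AtPrime q.asIdeal) b)).toNat =
      (Module.length A (A ⧸ Ideal.span {b})).toNat := by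
  haveI := hB.2.1
  have hP : algebraMap A B b ∈ nonZeroDivisors B := mem_nonZeroDivisors_of_local _ fun q ↦ by
    rw [← IsScalarTower.algebraMap_apply]; exact hbB q
  have hlen : Module.length A (A ⧸ Ideal.span {b}) = Module.length A (B ⧸ Ideal.span {algebraMap A B b}) := by
    have h := length_coker_eq (Algebra.linearMap A B) hB.1 (LinearMap.mulLeft A b)
      (LinearMap.mulLeft A (algebraMap A B b)) (LinearMap.ext fun c ↦ (map_mul (algebraMap A B) b c).symm)
      (fun x y hxy ↦ (mul_cancel_left_mem_nonZeroDivisors hP).mp hxy)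
      (length_coker_lt_top hB _ fun c ↦ ⟨c, rfl⟩)
    have e : ∀ {S : Type u} [CommRing S] [Algebra A S] (c : S),
        LinearMap.range (LinearMap.mulLeft A c) = (Ideal.span {c}).restrictScalars A := fun {S} _ _ c ↦ by
      ext z
      simp only [LinearMap.mem_range, Submodule.restrictScalars_mem, Ideal.mem_span_singleton', LinearMap.mulLeft_apply]
      exact ⟨fun ⟨y, hy⟩ ↦ ⟨y, by rw [mul_comm, hy]⟩, fun ⟨y, hy⟩ ↦ ⟨y, by rw [mul_comm, hy]⟩⟩
    rw [e, e] at h
    exact h
  haveI : IsNoetherianRing B := IsNoetherianRing.of_finite A B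
  haveI := fun q : MaximalSpectrum B ↦ krullDimLE_one_localization (A := A) q.asIdeal
  haveI : ∀ q : MaximalSpectrum B, IsNoetherianRing (Localization.AtPrime q.asIdeal) := fun q ↦
    IsLocalization.isNoetherianRing q.asIdeal.primeCompl _ inferInstance
  rw [hlen, length_quot_eq_sum (A := A) _ (length_quot_lt_top (A := A) _ hP), ENat.toNat_sum (fun q _ ↦ ?_)]
  · refine Finset.sum_congr rfl fun q _ ↦ ?_
    rw [ENat.toNat_mul, ENat.toNat_coe, ← IsScalarTower.algebraMap_apply]
  · refine WithTop.mul_ne_top (ENat.coe_ne_top _) (Ring.ord_ne_top ?_)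
    rw [← IsScalarTower.algebraMap_apply]; exact hbB q

theorem laws (hA : ringKrullDim A = 1) :
    (∀ a a' b : A, a ∈ nonZeroDivisors A → a' ∈ nonZeroDivisors A → b ∈ nonZeroDivisors A →
      CycAlg.tameSymbol A (a * a') b = CycAlg.tameSymbol A a b * CycAlg.tameSymbol A a' b ∧
      CycAlg.tameSymbol A b (a * a') = CycAlg.tameSymbol A b a * CycAlg.tameSymbol A b a') ∧
    (∀ b : A, b ∈ nonZeroDivisors A →
      CycAlg.tameSymbol A b b = (-1) ^ (Module.length A (A ⧸ Ideal.span {b})).toNat) ∧
    (∀ (c : Aˣ) (b : A), b ∈ nonZeroDivisors A → CycAlg.tameSymbol A (c : A) b =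
      residue A (c : A) ^ (Module.length A (A ⧸ Ideal.span {b})).toNat) ∧
    (∀ a b : A, a ∈ nonZeroDivisors A → b ∈ nonZeroDivisors A → b - a ∈ nonZeroDivisors A →
      CycAlg.tameSymbol A a (b - a) * CycAlg.tameSymbol A b b = CycAlg.tameSymbol A b (b - a) * CycAlg.tameSymbol A a b) := by
  classical
  refine ⟨fun a a' b ha ha' hb ↦ ?_, fun b hb ↦ ?_, fun c b hb ↦ ?_, fun a b ha hb hba ↦ ?_⟩
  · obtain ⟨B, _, _, hB, π, v, e, hπ, hv⟩ := exists_common hA ![a, a', b] (by intro i; fin_cases i <;> assumption)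
    haveI := hB.2.1
    haveI : Finite (MaximalSpectrum B) := (finite_maximalSpectrum (A := A)).1
    letI := Fintype.ofFinite (MaximalSpectrum B)
    haveI : ∀ q : MaximalSpectrum B, IsLocalHom (algebraMap A (Localization.AtPrime q.asIdeal)) := isLocalHom_maximal
    have haa : ∀ q : MaximalSpectrum B, algebraMap A (Localization.AtPrime q.asIdeal) (a * a') =
        ((v q 0 * v q 1 : (Localization.AtPrime q.asIdeal)ˣ) : Localization.AtPrime q.asIdeal) * π q ^ (e q 0 + e q 1) := fun q ↦ by
      have h0 := hv q 0; have h1 := hv q 1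
      simp only [Matrix.cons_val_zero, Matrix.cons_val_one] at h0 h1
      rw [map_mul, h0, h1, pow_add, Units.val_mul]; ring
    constructor
    · rw [tameSymbol_eq_prod (mul_mem ha ha') hb hB π hπ _ _ _ _ haa (fun q ↦ hv q 2),
        tameSymbol_eq_prod ha hb hB π hπ _ _ _ _ (fun q ↦ hv q 0) (fun q ↦ hv q 2),
        tameSymbol_eq_prod ha' hb hB π hπ _ _ _ _ (fun q ↦ hv q 1) (fun q ↦ hv q 2), ← Finset.prod_mul_distrib]
      exact Finset.prod_congr rfl fun q _ ↦ by rw [← map_mul, raw, raw, raw, ← mul_pow, base_mul_left]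
    · rw [tameSymbol_eq_prod hb (mul_mem ha ha') hB π hπ _ _ _ _ (fun q ↦ hv q 2) haa,
        tameSymbol_eq_prod hb ha hB π hπ _ _ _ _ (fun q ↦ hv q 2) (fun q ↦ hv q 0),
        tameSymbol_eq_prod hb ha' hB π hπ _ _ _ _ (fun q ↦ hv q 2) (fun q ↦ hv q 1), ← Finset.prod_mul_distrib]
      exact Finset.prod_congr rfl fun q _ ↦ by rw [← map_mul, raw, raw, raw, ← mul_pow, base_mul_right]
  · obtain ⟨B, _, _, hB, π, v, e, hπ, hv⟩ := exists_common hA ![b] (by intro i; fin_cases i; assumption)
    haveI := hB.2.1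
    haveI : Finite (MaximalSpectrum B) := (finite_maximalSpectrum (A := A)).1
    letI := Fintype.ofFinite (MaximalSpectrum B)
    haveI : ∀ q : MaximalSpectrum B, IsLocalHom (algebraMap A (Localization.AtPrime q.asIdeal)) := isLocalHom_maximal
    haveI : IsNoetherianRing B := IsNoetherianRing.of_finite A B
    haveI := fun q : MaximalSpectrum B ↦ krullDimLE_one_localization (A := A) q.asIdeal
    haveI : ∀ q : MaximalSpectrum B, IsNoetherianRing (Localization.AtPrime q.asIdeal) := fun q ↦
      IsLocalization.isNoetherianRing q.asIdeal.primeCompl _ inferInstance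
    have hv0 : ∀ q : MaximalSpectrum B, algebraMap A (Localization.AtPrime q.asIdeal) b =
        (v q 0 : Localization.AtPrime q.asIdeal) * π q ^ e q 0 := fun q ↦ hv q 0
    rw [tameSymbol_eq_prod hb hb hB π hπ _ _ _ _ hv0 hv0,
      ← sum_deg_ord hB hb (fun q ↦ by rw [hv0]; exact mul_mem (v q 0).isUnit.mem_nonZeroDivisors (pow_mem (hπ q) _)),
      ← Finset.prod_pow_eq_pow_sum]
    refine Finset.prod_congr rfl fun q _ ↦ ?_
    rw [raw, base_self, ← pow_mul, hv0, ord_pow_toNat (hπ q)]
    rw [show (-1 : ResidueField (Localization.AtPrime q.asIdeal)) =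
      algebraMap (ResidueField A) _ (-1) by rw [map_neg, map_one], ← map_pow, Algebra.norm_algebraMap, ← pow_mul,
      mul_comm (Module.finrank _ _)]
  · obtain ⟨B, _, _, hB, π, v, e, hπ, hv⟩ := exists_common hA ![b] (by intro i; fin_cases i; assumption)
    haveI := hB.2.1
    haveI : Finite (MaximalSpectrum B) := (finite_maximalSpectrum (A := A)).1
    letI := Fintype.ofFinite (MaximalSpectrum B)
    haveI : ∀ q : MaximalSpectrum B, IsLocalHom (algebraMap A (Localization.AtPrime q.asIdeal)) := isLocalHom_maximal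
    haveI : IsNoetherianRing B := IsNoetherianRing.of_finite A B
    haveI := fun q : MaximalSpectrum B ↦ krullDimLE_one_localization (A := A) q.asIdeal
    haveI : ∀ q : MaximalSpectrum B, IsNoetherianRing (Localization.AtPrime q.asIdeal) := fun q ↦
      IsLocalization.isNoetherianRing q.asIdeal.primeCompl _ inferInstance
    have hv0 : ∀ q : MaximalSpectrum B, algebraMap A (Localization.AtPrime q.asIdeal) b =
        (v q 0 : Localization.AtPrime q.asIdeal) * π q ^ e q 0 := fun q ↦ hv q 0
    rw [tameSymbol_eq_prod c.isUnit.mem_nonZeroDivisors hb hB π hπ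
        (fun q ↦ Units.map (algebraMap A (Localization.AtPrime q.asIdeal) : A →* _) c) _ (fun _ ↦ 0) _
        (fun q ↦ by rw [pow_zero, mul_one]; rfl) hv0,
      ← sum_deg_ord hB hb (fun q ↦ by rw [hv0]; exact mul_mem (v q 0).isUnit.mem_nonZeroDivisors (pow_mem (hπ q) _)),
      ← Finset.prod_pow_eq_pow_sum]
    refine Finset.prod_congr rfl fun q _ ↦ ?_
    rw [raw, base_unit, ← pow_mul, hv0, ord_pow_toNat (hπ q)]
    change Algebra.norm (ResidueField A) (algebraMap (ResidueField A) _ (residue A (c : A)) ^ _) = _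
    rw [← map_pow, Algebra.norm_algebraMap, ← pow_mul, mul_comm (Module.finrank _ _)]
  · obtain ⟨B, _, _, hB, π, v, e, hπ, hv⟩ := exists_common hA ![a, b, b - a] (by intro i; fin_cases i <;> assumption)
    haveI := hB.2.1
    haveI : Finite (MaximalSpectrum B) := (finite_maximalSpectrum (A := A)).1
    letI := Fintype.ofFinite (MaximalSpectrum B)
    haveI : ∀ q : MaximalSpectrum B, IsLocalHom (algebraMap A (Localization.AtPrime q.asIdeal)) := isLocalHom_maximal
    haveI : IsNoetherianRing B := IsNoetherianRing.of_finite A B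
    haveI := fun q : MaximalSpectrum B ↦ krullDimLE_one_localization (A := A) q.asIdeal
    haveI : ∀ q : MaximalSpectrum B, IsNoetherianRing (Localization.AtPrime q.asIdeal) := fun q ↦
      IsLocalization.isNoetherianRing q.asIdeal.primeCompl _ inferInstance
    rw [tameSymbol_eq_prod ha hba hB π hπ _ _ _ _ (fun q ↦ hv q 0) (fun q ↦ hv q 2),
      tameSymbol_eq_prod hb hb hB π hπ _ _ _ _ (fun q ↦ hv q 1) (fun q ↦ hv q 1),
      tameSymbol_eq_prod hb hba hB π hπ _ _ _ _ (fun q ↦ hv q 1) (fun q ↦ hv q 2),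
      tameSymbol_eq_prod ha hb hB π hπ _ _ _ _ (fun q ↦ hv q 0) (fun q ↦ hv q 1),
      ← Finset.prod_mul_distrib, ← Finset.prod_mul_distrib]
    refine Finset.prod_congr rfl fun q _ ↦ ?_
    rw [← map_mul, ← map_mul, raw, raw, raw, raw, ← mul_pow, ← mul_pow]
    by_cases hu : IsUnit (π q)
    · rw [(ord_toNat_eq_zero_iff (hπ q)).mpr hu, pow_zero, pow_zero]
    · congr 2
      refine base_steinberg (hπ q) hu ?_
      have h0 := hv q 0; have h1 := hv q 1; have h2 := hv q 2
      simp only [Matrix.cons_val_zero, Matrix.cons_val_one, Matrix.cons_val_two, Matrix.tail_cons, Matrix.head_cons] at h0 h1 h2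
      rw [← h0, ← h1, ← map_sub, h2]

end Groth.Agent.CycTameLib
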