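import Mathlib
import Groth.Prelude.Def_Tame
import Groth.Agent.CycAlgLib.Herbrand

/-!
# Additivity of orders and of Herbrand quotients over products
-/

set_option autoImplicit false

universe u

open IsLocalRing

namespace Groth.Agent.CycTameLib

section Ord

variable {A : Type u} [CommRing A] [IsNoetherianRing A] {P : Ideal A} [P.IsPrime]

theorem ordFrac_mul (hP : ringKrullDim (A ⧸ P) ≤ 1) {x y : P.ResidueField} (hx : x ≠ 0) (hy : y ≠ 0) :
    CycAlg.ordFrac (A ⧸ P) P.ResidueField (x * y) =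
      CycAlg.ordFrac (A ⧸ P) P.ResidueField x + CycAlg.ordFrac (A ⧸ P) P.ResidueField y := by
  have hc : IsNoetherianRing (A ⧸ P) ∧ Ring.KrullDimLE 1 (A ⧸ P) ∧ Nontrivial (A ⧸ P) ∧
      IsFractionRing (A ⧸ P) P.ResidueField :=
    ⟨inferInstance, Ring.krullDimLE_iff.mpr hP, inferInstance, inferInstance⟩
  haveI := hc.2.1
  simp only [CycAlg.ordFrac]
  rw [dif_pos hc, dif_pos hc, dif_pos hc, map_mul]
  obtain ⟨a, ha⟩ := WithZero.ne_zero_iff_exists.mp ((map_ne_zero (Ring.ordFrac (A ⧸ P) : P.ResidueField →*₀ WithZero (Multiplicative ℤ))).mpr hx)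
  obtain ⟨b, hb⟩ := WithZero.ne_zero_iff_exists.mp ((map_ne_zero (Ring.ordFrac (A ⧸ P) : P.ResidueField →*₀ WithZero (Multiplicative ℤ))).mpr hy)
  rw [← ha, ← hb, ← WithZero.coe_mul]
  rfl

theorem ordFrac_one (hP : ringKrullDim (A ⧸ P) ≤ 1) : CycAlg.ordFrac (A ⧸ P) P.ResidueField 1 = 0 := by
  have h := ordFrac_mul hP (one_ne_zero (α := P.ResidueField)) one_ne_zero
  rw [one_mul] at h
  omega

theorem ordFrac_sign (hP : ringKrullDim (A ⧸ P) ≤ 1) {x : P.ResidueField} (hx : x * x = 1) :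
    CycAlg.ordFrac (A ⧸ P) P.ResidueField x = 0 := by
  have hx0 : x ≠ 0 := fun h ↦ by rw [h, mul_zero] at hx; exact zero_ne_one hx
  have h := ordFrac_mul hP hx0 hx0
  rw [hx, ordFrac_one hP] at h
  omega

theorem ordFrac_prod (hP : ringKrullDim (A ⧸ P) ≤ 1) {ι : Type u} (s : Finset ι) (x : ι → P.ResidueField)
    (hx : ∀ i ∈ s, x i ≠ 0) :
    CycAlg.ordFrac (A ⧸ P) P.ResidueField (∏ i ∈ s, x i) = ∑ i ∈ s, CycAlg.ordFrac (A ⧸ P) P.ResidueField (x i) := by
  classical
  induction s using Finset.induction_on with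
  | empty => simp [ordFrac_one hP]
  | @insert i s his ih =>
    rw [Finset.prod_insert his, Finset.sum_insert his, ordFrac_mul hP (hx i (Finset.mem_insert_self i s))
      (Finset.prod_ne_zero_iff.mpr fun j hj ↦ hx j (Finset.mem_insert_of_mem hj)),
      ih fun j hj ↦ hx j (Finset.mem_insert_of_mem hj)]

end Ord

section Pi

variable {A : Type u} [CommRing A] {ι : Type u} [Fintype ι] {W : ι → Type u} [∀ i, AddCommGroup (W i)]
  [∀ i, Module A (W i)]

theorem length_perH_pi (α β : ∀ i, W i →ₗ[A] W i) :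
    Module.length A (CycAlg.perH (LinearMap.piMap α) (LinearMap.piMap β)) =
      ∑ i, Module.length A (CycAlg.perH (α i) (β i)) := by
  rw [← Module.length_pi_of_fintype]
  let T : LinearMap.ker (LinearMap.piMap α) →ₗ[A] ∀ i, CycAlg.perH (α i) (β i) :=
    LinearMap.pi fun i ↦ Submodule.mkQ _ ∘ₗ
      ((LinearMap.proj i ∘ₗ (LinearMap.ker (LinearMap.piMap α)).subtype).codRestrict (LinearMap.ker (α i))
        (fun x ↦ congrFun (LinearMap.mem_ker.mp x.2) i))
  have hsurj : Function.Surjective T := fun z ↦ by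
    choose y hy using fun i ↦ Submodule.Quotient.mk_surjective _ (z i)
    exact ⟨⟨fun i ↦ (y i).1, LinearMap.mem_ker.mpr (funext fun i ↦ (y i).2)⟩, funext fun i ↦ hy i⟩
  have hker : (LinearMap.range (LinearMap.piMap β)).submoduleOf (LinearMap.ker (LinearMap.piMap α)) = LinearMap.ker T := by
    ext x
    rw [LinearMap.mem_ker]
    constructor
    · rintro ⟨y, hy⟩
      funext i
      exact (Submodule.Quotient.mk_eq_zero _).mpr ⟨y i, congrFun hy i⟩
    · intro h
      have h' : ∀ i, ∃ y, β i y = x.1 i := fun i ↦ (Submodule.Quotient.mk_eq_zero _).mp (congrFun h i)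
      choose y hy using h'
      exact ⟨y, funext hy⟩
  exact ((Submodule.quotEquivOfEq _ _ hker).trans (LinearMap.quotKerEquivOfSurjective T hsurj)).length_eq

theorem herbrand_pi (α β : ∀ i, W i →ₗ[A] W i) (h : ∀ i, CycAlg.FinCoh A (α i) (β i)) :
    CycAlg.FinCoh A (LinearMap.piMap α) (LinearMap.piMap β) ∧
      CycAlg.herbrand A (LinearMap.piMap α) (LinearMap.piMap β) = ∑ i, CycAlg.herbrand A (α i) (β i) := by
  simp only [CycAlg.FinCoh, CycAlg.herbrand, length_perH_pi]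
  refine ⟨⟨ENat.sum_lt_top.mpr fun i _ ↦ (h i).1, ENat.sum_lt_top.mpr fun i _ ↦ (h i).2⟩, ?_⟩
  rw [ENat.toNat_sum fun i _ ↦ (h i).1.ne, ENat.toNat_sum fun i _ ↦ (h i).2.ne, Nat.cast_sum, Nat.cast_sum,
    Finset.sum_sub_distrib]

end Pi

end Groth.Agent.CycTameLib
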