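import Mathlib
import Groth.Agent.CycTameLib.Laws
import Groth.Agent.CycTameLib.OrdHom

/-!
# Tame symbols and orders under isomorphisms; skew symmetry
-/

set_option autoImplicit false

universe u

open IsLocalRing

namespace Groth.Agent.CycTameLib

section Skew

variable {R : Type u} [CommRing R] [IsLocalRing R]

theorem base_swap (u v : Rˣ) (e f : ℕ) : base u v e f * base v u f e = 1 := by
  have hu := residue_ne_zero' u
  have hv := residue_ne_zero' v
  simp only [base]
  rw [mul_comm f e]
  have h1 : ((-1 : ResidueField R) ^ (e * f)) * ((-1) ^ (e * f)) = 1 := by rw [← mul_pow]; simp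
  have h2 : residue R (u : R) ^ f * (residue R (u : R) ^ f)⁻¹ = 1 := mul_inv_cancel₀ (pow_ne_zero _ hu)
  have h3 : residue R (v : R) ^ e * (residue R (v : R) ^ e)⁻¹ = 1 := mul_inv_cancel₀ (pow_ne_zero _ hv)
  linear_combination (residue R (u : R) ^ f * (residue R (u : R) ^ f)⁻¹ *
    (residue R (v : R) ^ e * (residue R (v : R) ^ e)⁻¹)) * h1 +
    (residue R (v : R) ^ e * (residue R (v : R) ^ e)⁻¹) * h2 + h3

variable {A : Type u} [CommRing A] [IsLocalRing A] [IsNoetherianRing A] [Ring.KrullDimLE 1 A]

theorem tameSymbol_swap (hA : ringKrullDim A = 1) {a b : A} (ha : a ∈ nonZeroDivisors A)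
    (hb : b ∈ nonZeroDivisors A) : CycAlg.tameSymbol A a b * CycAlg.tameSymbol A b a = 1 := by
  classical
  obtain ⟨B, _, _, hB, π, v, e, hπ, hv⟩ := exists_common hA ![a, b] (by intro i; fin_cases i <;> assumption)
  haveI := hB.2.1
  haveI : Finite (MaximalSpectrum B) := (finite_maximalSpectrum (A := A)).1
  letI := Fintype.ofFinite (MaximalSpectrum B)
  haveI : ∀ q : MaximalSpectrum B, IsLocalHom (algebraMap A (Localization.AtPrime q.asIdeal)) := isLocalHom_maximal
  rw [tameSymbol_eq_prod ha hb hB π hπ _ _ _ _ (fun q ↦ hv q 0) (fun q ↦ hv q 1),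
    tameSymbol_eq_prod hb ha hB π hπ _ _ _ _ (fun q ↦ hv q 1) (fun q ↦ hv q 0), ← Finset.prod_mul_distrib]
  refine Finset.prod_eq_one fun q _ ↦ ?_
  rw [← map_mul, raw, raw, ← mul_pow, base_swap, one_pow, map_one]

end Skew

section Transport

theorem ringKrullDim_eq_one_of_equiv {R R' : Type u} [CommRing R] [CommRing R'] (e : R ≃+* R')
    (h : ringKrullDim R = 1) : ringKrullDim R' = 1 :=
  (ringKrullDim_eq_of_ringEquiv e).symm.trans h

theorem tameSymbol_equiv {R R' : Type u} [CommRing R] [IsLocalRing R] [IsNoetherianRing R]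
    [CommRing R'] [IsLocalRing R'] [IsNoetherianRing R'] (e : R ≃+* R') (hR : ringKrullDim R = 1)
    {a b : R} (ha : a ∈ nonZeroDivisors R) (hb : b ∈ nonZeroDivisors R) :
    CycAlg.tameSymbol R' (e a) (e b) = ResidueField.mapEquiv e (CycAlg.tameSymbol R a b) := by
  classical
  have hR' := ringKrullDim_eq_one_of_equiv e hR
  haveI : Ring.KrullDimLE 1 R := Ring.krullDimLE_iff.mpr hR.le
  haveI : Ring.KrullDimLE 1 R' := Ring.krullDimLE_iff.mpr hR'.le
  obtain ⟨D⟩ := nonempty_tameData hR a b ha hb
  letI alg' : Algebra R' D.B := ((algebraMap R D.B).comp e.symm.toRingHom).toAlgebra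
  haveI := D.isFinExt.2.1
  haveI hfin : Module.Finite R' D.B := by
    obtain ⟨s, hs⟩ := (Module.finite_def.mp ‹Module.Finite R D.B›)
    refine ⟨⟨s, eq_top_iff.mpr fun x hxt ↦ ?_⟩⟩
    clear hxt
    have hx : x ∈ Submodule.span R (s : Set D.B) := hs ▸ Submodule.mem_top
    induction hx using Submodule.span_induction with
    | mem y hy => exact Submodule.subset_span hy
    | zero => exact zero_mem _
    | add y z _ _ hy hz => exact add_mem hy hz
    | smul r y _ hy =>
      have : r • y = e r • y := by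
        rw [Algebra.smul_def, Algebra.smul_def]
        change _ = algebraMap R D.B (e.symm (e r)) * y
        rw [RingEquiv.symm_apply_apply]
      rw [this]
      exact Submodule.smul_mem _ _ hy
  have hext : CycAlg.IsFinExt R' D.B (maximalIdeal R') := by
    refine ⟨D.isFinExt.1.comp e.symm.injective, hfin, ?_⟩
    obtain ⟨n, hn⟩ := D.isFinExt.2.2
    refine ⟨n, fun r hr y ↦ ?_⟩
    have hr' : e.symm r ∈ maximalIdeal R ^ n := by
      have hm : (maximalIdeal R').map e.symm.toRingHom = maximalIdeal R :=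
        IsLocalRing.map_ringEquiv_maximalIdeal e.symm
      rw [← hm, ← Ideal.map_pow]
      exact Ideal.mem_map_of_mem _ hr
    obtain ⟨z, hz⟩ := hn _ hr' y
    refine ⟨e z, ?_⟩
    change algebraMap R D.B (e.symm (e z)) = _
    rw [RingEquiv.symm_apply_apply, hz, Algebra.smul_def, Algebra.smul_def]
    rfl
  haveI hlh : ∀ q : MaximalSpectrum D.B, IsLocalHom (algebraMap R' (Localization.AtPrime q.asIdeal)) :=
    isLocalHom_maximal
  haveI : Finite (MaximalSpectrum D.B) := (finite_maximalSpectrum (A := R)).1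
  letI := Fintype.ofFinite (MaximalSpectrum D.B)
  have hmap : ∀ (q : MaximalSpectrum D.B) (c : R), algebraMap R' (Localization.AtPrime q.asIdeal) (e c) =
      algebraMap R (Localization.AtPrime q.asIdeal) c := fun q c ↦ by
    rw [IsScalarTower.algebraMap_apply R' D.B, IsScalarTower.algebraMap_apply R D.B]
    change algebraMap D.B _ (algebraMap R D.B (e.symm (e c))) = _
    rw [RingEquiv.symm_apply_apply]
  have hnz : ∀ c : R, c ∈ nonZeroDivisors R → e c ∈ nonZeroDivisors R' := fun c hc ↦ by
    rw [mem_nonZeroDivisors_iff_right]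
    intro z hz
    have h1 : e.symm z * c = 0 := e.injective (by rw [map_mul, RingEquiv.apply_symm_apply, hz, map_zero])
    exact e.symm.injective (((mem_nonZeroDivisors_iff_right.mp hc) _ h1).trans (map_zero _).symm)
  rw [tameSymbol_eq_prod (hnz a ha) (hnz b hb)
      hext D.π D.π_mem D.u₁ D.u₂ D.e₁ D.e₂ (fun q ↦ (hmap q a).trans (D.fac₁ q))
      (fun q ↦ (hmap q b).trans (D.fac₂ q)),
    tameSymbol_eq_value ha hb D, CycAlg.TameData.value, finprod_eq_prod_of_fintype, map_prod]
  refine Finset.prod_congr rfl fun q _ ↦ ?_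
  haveI := D.isLocalHom q
  haveI : Module.Finite (ResidueField R) (ResidueField (Localization.AtPrime q.asIdeal)) := finite_residue q
  rw [localFactor_eq, Algebra.norm_eq_of_equiv_equiv (ResidueField.mapEquiv e)
    (RingEquiv.refl (ResidueField (Localization.AtPrime q.asIdeal))) ?_, RingEquiv.apply_symm_apply]
  · rfl
  · refine RingHom.ext fun c ↦ ?_
    obtain ⟨c, rfl⟩ := residue_surjective c
    change residue _ (algebraMap R' (Localization.AtPrime q.asIdeal) (e c)) = _
    rw [hmap]
    rfl

theorem ordFrac_equiv {R R' : Type u} [CommRing R] [CommRing R'] [IsDomain R] [IsDomain R'] [IsNoetherianRing R]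
    {K K' : Type u} [Field K] [Field K'] [Algebra R K] [Algebra R' K'] [IsFractionRing R K] [IsFractionRing R' K']
    (e : R ≃+* R') (σ : K →+* K') (hσ : ∀ r, σ (algebraMap R K r) = algebraMap R' K' (e r))
    (hR : ringKrullDim R ≤ 1) (x : K) : CycAlg.ordFrac R' K' (σ x) = CycAlg.ordFrac R K x := by
  haveI : IsNoetherianRing R' := isNoetherianRing_of_ringEquiv R e
  haveI : Ring.KrullDimLE 1 R := Ring.krullDimLE_iff.mpr hR
  haveI : Ring.KrullDimLE 1 R' := Ring.krullDimLE_iff.mpr ((ringKrullDim_eq_of_ringEquiv e).symm.le.trans hR)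
  simp only [CycAlg.ordFrac]
  rw [dif_pos ⟨inferInstance, inferInstance, inferInstance, inferInstance⟩,
    dif_pos ⟨inferInstance, inferInstance, inferInstance, inferInstance⟩]
  congr 1
  have hint : ∀ r : R, Ring.ordFrac R' (σ (algebraMap R K r)) = Ring.ordFrac R (algebraMap R K r) := fun r ↦ by
    by_cases hr : r = 0
    · simp [hr]
    · rw [hσ, Ring.ordFrac_eq_ord _ (by simpa using hr), Ring.ordFrac_eq_ord _ hr,
        Ring.ordMonoidWithZeroHom_eq_ord (mem_nonZeroDivisors_iff_ne_zero.mpr (by simpa using hr)),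
        Ring.ordMonoidWithZeroHom_eq_ord (mem_nonZeroDivisors_iff_ne_zero.mpr hr)]
      have hl : Ring.ord R' (e r) = Ring.ord R r := by
        letI := e.toRingHom.toAlgebra
        have hspan : Ideal.span {e r} = (Ideal.span {r}).map e.toRingHom := by
          rw [Ideal.map_span, Set.image_singleton]; rfl
        rw [Ring.ord, Ring.ord, hspan, ← Module.length_eq_of_surjective (S := R)
          (M := R' ⧸ (Ideal.span {r}).map e.toRingHom) e.surjective]
        refine LinearEquiv.length_eq (LinearEquiv.symm (AddEquiv.toLinearEquiv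
          (Ideal.quotientEquiv _ _ e rfl).toAddEquiv ?_))
        intro c z
        obtain ⟨z, rfl⟩ := Ideal.Quotient.mk_surjective z
        change Ideal.quotientEquiv _ _ e rfl (Ideal.Quotient.mk _ (c * z)) = c • _
        rw [Ideal.quotientEquiv_mk, map_mul]
        rfl
      rw [hl]
  obtain ⟨p, q, hq, rfl⟩ := IsFractionRing.div_surjective (A := R) x
  rw [map_div₀, map_div₀, map_div₀, hint, hint]

end Transport

end Groth.Agent.CycTameLib
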