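import Mathlib
import Groth.Agent.CycTameLib.Equiv

/-!
# The tame symbol on the fraction field of a one-dimensional local domain
-/

set_option autoImplicit false

universe u

open IsLocalRing

namespace Groth.Agent.CycTameLib

section Def

variable (R : Type u) [CommRing R] [IsLocalRing R] {K : Type u} [Field K] [Algebra R K] [IsFractionRing R K]

/-- a numerator of an element of the fraction field -/
noncomputable def numK (a : K) : R := (IsLocalization.surj (nonZeroDivisors R) a).choose.1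

/-- a denominator of an element of the fraction field -/
noncomputable def denK (a : K) : R := ((IsLocalization.surj (nonZeroDivisors R) a).choose.2 : R)

theorem denK_mem (a : K) : denK R a ∈ nonZeroDivisors R := (IsLocalization.surj (nonZeroDivisors R) a).choose.2.2

theorem numK_spec (a : K) : a * algebraMap R K (denK R a) = algebraMap R K (numK R a) :=
  (IsLocalization.surj (nonZeroDivisors R) a).choose_spec

/-- the symbol of two elements of the fraction field -/
noncomputable def symK (a b : K) : ResidueField R :=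
  CycAlg.tameSymbol R (numK R a) (numK R b) * CycAlg.tameSymbol R (denK R a) (denK R b) /
    (CycAlg.tameSymbol R (denK R a) (numK R b) * CycAlg.tameSymbol R (numK R a) (denK R b))

end Def

variable {R : Type u} [CommRing R] [IsDomain R] [IsLocalRing R] [IsNoetherianRing R]
  {K : Type u} [Field K] [Algebra R K] [IsFractionRing R K]

theorem mem_nzd {p : R} (hp : p ≠ 0) : p ∈ nonZeroDivisors R := mem_nonZeroDivisors_iff_ne_zero.mpr hp

omit [IsLocalRing R] [IsNoetherianRing R] [IsFractionRing R K] in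
theorem ne_zero_of_repr {a : K} (ha : a ≠ 0) {p q : R} (hq : q ≠ 0) (hinj : Function.Injective (algebraMap R K))
    (h : a * algebraMap R K q = algebraMap R K p) : p ≠ 0 := by
  rintro rfl
  rw [map_zero, mul_eq_zero] at h
  exact h.elim ha fun h0 ↦ hq (hinj (h0.trans (map_zero _).symm))

variable (hR : ringKrullDim R = 1)

include hR in
theorem kdim : Ring.KrullDimLE 1 R := Ring.krullDimLE_iff.mpr hR.le

include hR in
theorem ts_ne_zero {p r : R} (hp : p ≠ 0) (hr : r ≠ 0) : CycAlg.tameSymbol R p r ≠ 0 :=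
  haveI := kdim hR
  tameSymbol_ne_zero hR (mem_nzd hp) (mem_nzd hr)

include hR in
theorem ts_mul_left {p p' r : R} (hp : p ≠ 0) (hp' : p' ≠ 0) (hr : r ≠ 0) :
    CycAlg.tameSymbol R (p * p') r = CycAlg.tameSymbol R p r * CycAlg.tameSymbol R p' r :=
  haveI := kdim hR
  ((laws hR).1 p p' r (mem_nzd hp) (mem_nzd hp') (mem_nzd hr)).1

include hR in
theorem ts_mul_right {p r r' : R} (hp : p ≠ 0) (hr : r ≠ 0) (hr' : r' ≠ 0) :
    CycAlg.tameSymbol R p (r * r') = CycAlg.tameSymbol R p r * CycAlg.tameSymbol R p r' :=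
  haveI := kdim hR
  ((laws hR).1 r r' p (mem_nzd hr) (mem_nzd hr') (mem_nzd hp)).2

include hR in
/-- any representatives compute the symbol -/
theorem symK_eq {a b : K} (ha : a ≠ 0) (hb : b ≠ 0) {p q r w : R} (hq : q ≠ 0) (hw : w ≠ 0)
    (hpq : a * algebraMap R K q = algebraMap R K p) (hrw : b * algebraMap R K w = algebraMap R K r) :
    symK R a b = CycAlg.tameSymbol R p r * CycAlg.tameSymbol R q w /
      (CycAlg.tameSymbol R q r * CycAlg.tameSymbol R p w) := by
  have hinj := IsFractionRing.injective R K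
  have hq₀ : denK R a ≠ 0 := mem_nonZeroDivisors_iff_ne_zero.mp (denK_mem R a)
  have hw₀ : denK R b ≠ 0 := mem_nonZeroDivisors_iff_ne_zero.mp (denK_mem R b)
  have hp := ne_zero_of_repr ha hq hinj hpq
  have hr := ne_zero_of_repr hb hw hinj hrw
  have hp₀ := ne_zero_of_repr ha hq₀ hinj (numK_spec R a)
  have hr₀ := ne_zero_of_repr hb hw₀ hinj (numK_spec R b)
  have e1 : numK R a * q = p * denK R a := hinj (by
    rw [map_mul, map_mul, ← numK_spec R a, ← hpq]; ring)
  have e2 : numK R b * w = r * denK R b := hinj (by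
    rw [map_mul, map_mul, ← numK_spec R b, ← hrw]; ring)
  have A1 : ∀ z : R, z ≠ 0 → CycAlg.tameSymbol R (numK R a) z * CycAlg.tameSymbol R q z =
      CycAlg.tameSymbol R p z * CycAlg.tameSymbol R (denK R a) z := fun z hz ↦ by
    rw [← ts_mul_left hR hp₀ hq hz, ← ts_mul_left hR hp hq₀ hz, e1]
  have A2 : ∀ z : R, z ≠ 0 → CycAlg.tameSymbol R z (numK R b) * CycAlg.tameSymbol R z w =
      CycAlg.tameSymbol R z r * CycAlg.tameSymbol R z (denK R b) := fun z hz ↦ by
    rw [← ts_mul_right hR hz hr₀ hw, ← ts_mul_right hR hz hr hw₀, e2]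
  have hstep : symK R a b = CycAlg.tameSymbol R p (numK R b) * CycAlg.tameSymbol R q (denK R b) /
      (CycAlg.tameSymbol R q (numK R b) * CycAlg.tameSymbol R p (denK R b)) := by
    rw [symK, div_eq_div_iff (mul_ne_zero (ts_ne_zero hR hq₀ hr₀) (ts_ne_zero hR hp₀ hw₀))
      (mul_ne_zero (ts_ne_zero hR hq hr₀) (ts_ne_zero hR hp hw₀))]
    linear_combination (CycAlg.tameSymbol R (denK R a) (denK R b) * CycAlg.tameSymbol R p (denK R b)) * A1 _ hr₀ -
      (CycAlg.tameSymbol R p (numK R b) * CycAlg.tameSymbol R (denK R a) (numK R b)) * A1 _ hw₀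
  rw [hstep, div_eq_div_iff (mul_ne_zero (ts_ne_zero hR hq hr₀) (ts_ne_zero hR hp hw₀))
    (mul_ne_zero (ts_ne_zero hR hq hr) (ts_ne_zero hR hp hw))]
  linear_combination (CycAlg.tameSymbol R q (denK R b) * CycAlg.tameSymbol R q r) * A2 _ hp -
    (CycAlg.tameSymbol R p r * CycAlg.tameSymbol R p (denK R b)) * A2 _ hq

omit [IsLocalRing R] [IsNoetherianRing R] in
theorem exists_repr {a : K} (ha : a ≠ 0) :
    ∃ p q : R, p ≠ 0 ∧ q ≠ 0 ∧ a * algebraMap R K q = algebraMap R K p := by
  obtain ⟨⟨p, q⟩, h⟩ := IsLocalization.surj (nonZeroDivisors R) a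
  have hq : (q : R) ≠ 0 := mem_nonZeroDivisors_iff_ne_zero.mp q.2
  exact ⟨p, q, ne_zero_of_repr ha hq (IsFractionRing.injective R K) h, hq, h⟩

include hR in
theorem symK_ne_zero {a b : K} (ha : a ≠ 0) (hb : b ≠ 0) : symK R a b ≠ 0 := by
  obtain ⟨p, q, hp, hq, hpq⟩ := exists_repr (R := R) ha
  obtain ⟨r, w, hr, hw, hrw⟩ := exists_repr (R := R) hb
  rw [symK_eq hR ha hb hq hw hpq hrw]
  exact div_ne_zero (mul_ne_zero (ts_ne_zero hR hp hr) (ts_ne_zero hR hq hw))
    (mul_ne_zero (ts_ne_zero hR hq hr) (ts_ne_zero hR hp hw))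

include hR in
theorem symK_mul_left {a a' b : K} (ha : a ≠ 0) (ha' : a' ≠ 0) (hb : b ≠ 0) :
    symK R (a * a') b = symK R a b * symK R a' b := by
  obtain ⟨p, q, hp, hq, hpq⟩ := exists_repr (R := R) ha
  obtain ⟨p', q', hp', hq', hpq'⟩ := exists_repr (R := R) ha'
  obtain ⟨r, w, hr, hw, hrw⟩ := exists_repr (R := R) hb
  have h : a * a' * algebraMap R K (q * q') = algebraMap R K (p * p') := by
    rw [map_mul, map_mul, ← hpq, ← hpq']; ring
  rw [symK_eq hR (mul_ne_zero ha ha') hb (mul_ne_zero hq hq') hw h hrw, symK_eq hR ha hb hq hw hpq hrw,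
    symK_eq hR ha' hb hq' hw hpq' hrw, ts_mul_left hR hp hp' hr, ts_mul_left hR hq hq' hw, ts_mul_left hR hq hq' hr,
    ts_mul_left hR hp hp' hw]
  field_simp

include hR in
theorem symK_swap {a b : K} (ha : a ≠ 0) (hb : b ≠ 0) : symK R a b * symK R b a = 1 := by
  haveI := kdim hR
  obtain ⟨p, q, hp, hq, hpq⟩ := exists_repr (R := R) ha
  obtain ⟨r, w, hr, hw, hrw⟩ := exists_repr (R := R) hb
  have S : ∀ {x y : R}, x ≠ 0 → y ≠ 0 → CycAlg.tameSymbol R x y * CycAlg.tameSymbol R y x = 1 :=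
    fun hx hy ↦ tameSymbol_swap hR (mem_nzd hx) (mem_nzd hy)
  rw [symK_eq hR ha hb hq hw hpq hrw, symK_eq hR hb ha hw hq hrw hpq, div_mul_div_comm,
    div_eq_one_iff_eq (mul_ne_zero (mul_ne_zero (ts_ne_zero hR hq hr) (ts_ne_zero hR hp hw))
      (mul_ne_zero (ts_ne_zero hR hw hp) (ts_ne_zero hR hr hq)))]
  linear_combination (CycAlg.tameSymbol R q w * CycAlg.tameSymbol R w q) * S hp hr + S hq hw -
    (CycAlg.tameSymbol R p w * CycAlg.tameSymbol R w p) * S hq hr - S hp hw

include hR in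
theorem symK_mul_right {a b b' : K} (ha : a ≠ 0) (hb : b ≠ 0) (hb' : b' ≠ 0) :
    symK R a (b * b') = symK R a b * symK R a b' := by
  have h1 := symK_swap hR ha (mul_ne_zero hb hb')
  have h2 := symK_swap hR ha hb
  have h3 := symK_swap hR ha hb'
  rw [symK_mul_left hR hb hb' ha] at h1
  refine mul_right_cancel₀ (mul_ne_zero (symK_ne_zero hR hb ha) (symK_ne_zero hR hb' ha)) (h1.trans ?_)
  linear_combination -(symK R a b' * symK R b' a) * h2 - h3

include hR in
theorem symK_algebraMap {p r : R} (hp : p ≠ 0) (hr : r ≠ 0) :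
    symK R (algebraMap R K p) (algebraMap R K r) = CycAlg.tameSymbol R p r := by
  haveI := kdim hR
  have hinj := IsFractionRing.injective R K
  have h0 : ∀ {x : R}, x ≠ 0 → algebraMap R K x ≠ 0 := fun hx h ↦ hx (hinj (h.trans (map_zero _).symm))
  have h1 : ∀ {x : R}, x ≠ 0 → CycAlg.tameSymbol R 1 x = 1 := fun {x} hx ↦ by
    have := (laws hR).2.2.1 1 x (mem_nzd hx)
    rw [Units.val_one, map_one, one_pow] at this
    exact this
  have h1' : CycAlg.tameSymbol R p 1 = 1 := by
    have h := tameSymbol_swap hR (mem_nzd hp) (mem_nzd (one_ne_zero (α := R)))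
    rwa [h1 hp, mul_one] at h
  rw [symK_eq hR (h0 hp) (h0 hr) (p := p) (r := r) one_ne_zero one_ne_zero (by rw [map_one, mul_one]) (by rw [map_one, mul_one]),
    h1 hr, h1 one_ne_zero, h1', mul_one, mul_one, div_one]

include hR in
theorem ordFrac_algebraMap {r : R} (hr : r ≠ 0) :
    CycAlg.ordFrac R K (algebraMap R K r) = ((Module.length R (R ⧸ Ideal.span {r})).toNat : ℤ) := by
  haveI := kdim hR
  simp only [CycAlg.ordFrac]
  rw [dif_pos ⟨inferInstance, inferInstance, inferInstance, inferInstance⟩, Ring.ordFrac_eq_ord _ hr,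
    Ring.ordMonoidWithZeroHom_eq_ord (mem_nzd hr)]
  change _ = ((Ring.ord R r).toNat : ℤ)
  rcases ho : Ring.ord R r with _ | n
  · exact absurd ho (Ring.ord_ne_top (mem_nzd hr))
  · rfl

include hR in
theorem ordFrac_mulK {x y : K} (hx : x ≠ 0) (hy : y ≠ 0) :
    CycAlg.ordFrac R K (x * y) = CycAlg.ordFrac R K x + CycAlg.ordFrac R K y := by
  haveI := kdim hR
  simp only [CycAlg.ordFrac]
  rw [dif_pos ⟨inferInstance, inferInstance, inferInstance, inferInstance⟩,
    dif_pos ⟨inferInstance, inferInstance, inferInstance, inferInstance⟩,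
    dif_pos ⟨inferInstance, inferInstance, inferInstance, inferInstance⟩, map_mul]
  obtain ⟨a, ha⟩ := WithZero.ne_zero_iff_exists.mp ((map_ne_zero (Ring.ordFrac R : K →*₀ WithZero (Multiplicative ℤ))).mpr hx)
  obtain ⟨b, hb⟩ := WithZero.ne_zero_iff_exists.mp ((map_ne_zero (Ring.ordFrac R : K →*₀ WithZero (Multiplicative ℤ))).mpr hy)
  rw [← ha, ← hb, ← WithZero.coe_mul]
  rfl

include hR in
/-- a unit in the first entry -/
theorem symK_unit_left (c : Rˣ) {b : K} (hb : b ≠ 0) :
    symK R (algebraMap R K (c : R)) b = residue R (c : R) ^ CycAlg.ordFrac R K b := by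
  haveI := kdim hR
  have hinj := IsFractionRing.injective R K
  obtain ⟨r, w, hr, hw, hrw⟩ := exists_repr (R := R) hb
  have hc : algebraMap R K (c : R) ≠ 0 := fun h ↦ c.isUnit.ne_zero (hinj (h.trans (map_zero _).symm))
  have hwK : algebraMap R K w ≠ 0 := fun h ↦ hw (hinj (h.trans (map_zero _).symm))
  have hord : CycAlg.ordFrac R K b = ((Module.length R (R ⧸ Ideal.span {r})).toNat : ℤ) -
      ((Module.length R (R ⧸ Ideal.span {w})).toNat : ℤ) := by
    have := ordFrac_mulK hR hb hwK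
    rw [hrw, ordFrac_algebraMap hR hr, ordFrac_algebraMap hR hw] at this
    omega
  have h1 : ∀ {x : R}, x ≠ 0 → CycAlg.tameSymbol R (c : R) x =
      residue R (c : R) ^ (Module.length R (R ⧸ Ideal.span {x})).toNat := fun {x} hx ↦ (laws hR).2.2.1 c x (mem_nzd hx)
  have h2 : ∀ {x : R}, x ≠ 0 → CycAlg.tameSymbol R 1 x = 1 := fun {x} hx ↦ by
    have := (laws hR).2.2.1 1 x (mem_nzd hx)
    rw [Units.val_one, map_one, one_pow] at this
    exact this
  rw [symK_eq hR hc hb (p := (c : R)) one_ne_zero hw (by rw [map_one, mul_one]) hrw, h1 hr, h1 hw, h2 hr, h2 hw, mul_one, one_mul,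
    hord, zpow_sub₀ (residue_ne_zero' c), zpow_natCast, zpow_natCast]

include hR in
/-- a unit in the second entry -/
theorem symK_unit_right (c : Rˣ) {a : K} (ha : a ≠ 0) :
    symK R a (algebraMap R K (c : R)) = residue R (c : R) ^ (-CycAlg.ordFrac R K a) := by
  have hc : algebraMap R K (c : R) ≠ 0 := fun h ↦
    c.isUnit.ne_zero (IsFractionRing.injective R K (h.trans (map_zero _).symm))
  have h := symK_swap hR ha hc
  rw [symK_unit_left hR c ha] at h
  rw [zpow_neg]
  exact eq_inv_of_mul_eq_one_left h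

end Groth.Agent.CycTameLib
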