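import Mathlib
import Groth.Agent.CycDetLib.Line
import Groth.Agent.CycDetLib.Gamma

/-!
# The effect of a scalar automorphism on determinant symbols
-/

set_option autoImplicit false

universe u

open IsLocalRing CycDet Groth.Agent.CycDetLib

namespace Groth.Agent.CycTameLib

variable {A : Type u} [CommRing A] [IsLocalRing A]

theorem isAdmissible_comp {M N : Type u} [AddCommGroup M] [Module A M] [AddCommGroup N] [Module A N] (θ : M →ₗ[A] N)
    {l : ℕ} {e : Fin l → M} (he : IsAdmissible A M e) : IsAdmissible A N (θ ∘ e) := by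
  intro i r hr
  have h := Submodule.mem_map_of_mem (f := θ) (he i r hr)
  rw [spanBefore, Submodule.map_span, ← Set.image_comp, map_smul] at h
  exact h

/-- image of an admissible tuple -/
def admComp {M N : Type u} [AddCommGroup M] [Module A M] [AddCommGroup N] [Module A N] (θ : M →ₗ[A] N) {l : ℕ}
    (e : Adm A M l) : Adm A N l :=
  ⟨θ ∘ e.1, isAdmissible_comp θ e.2⟩

/-- the symbol map along a linear map -/
theorem isDet_admComp {M N : Type u} [AddCommGroup M] [Module A M] [AddCommGroup N] [Module A N] (θ : M →ₗ[A] N)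
    (l : ℕ) : IsDet (fun e : Adm A M l ↦ (Submodule.Quotient.mk (sym A N (admComp θ e)) : DetOfLen A N l)) := by
  have hsp : ∀ (e : Adm A M l) (i : ℕ) (m : M), m ∈ spanBefore A M e.1 i →
      θ m ∈ spanBefore A N (admComp θ e).1 i := fun e i m hm ↦ by
    have h := Submodule.mem_map_of_mem (f := θ) hm
    rw [spanBefore, Submodule.map_span, ← Set.image_comp] at h
    exact h
  refine ⟨fun e a ha ↦ (isDet_mk (R := A) l).zero (admComp θ e) a (hsp e a _ ha), fun e e' a c h1 h2 ↦ ?_,
    fun e e' a b h1 h2 h3 ↦ ?_⟩
  · refine (isDet_mk (R := A) l).scale (admComp θ e) (admComp θ e') a c (fun j hj ↦ congrArg θ (h1 j hj)) ?_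
    have h := hsp e a _ h2
    rwa [map_sub, map_smul] at h
  · refine (isDet_mk (R := A) l).swap (admComp θ e) (admComp θ e') a b h1 (fun r hr ↦ ?_)
      (funext fun j ↦ congrArg θ (congrFun h3 j))
    have h := hsp e b _ (h2 r hr)
    rwa [map_smul] at h

/-- `θ` multiplies symbols of length `l` by `c` -/
def Scales {N : Type u} [AddCommGroup N] [Module A N] (θ : N →ₗ[A] N) (l : ℕ) (c : ResidueField A) : Prop :=
  ∀ e : Adm A N l, (Submodule.Quotient.mk (sym A N (admComp θ e)) : DetOfLen A N l) = c • Submodule.Quotient.mk (sym A N e)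

theorem scales_of_strict {N : Type u} [AddCommGroup N] [Module A N] {θ : N →ₗ[A] N} {l : ℕ}
    (hl : Module.length A N = l) (f : Adm A N l) (hf : Strict (R := A) f.1) {c : ResidueField A}
    (h : (Submodule.Quotient.mk (sym A N (admComp θ f)) : DetOfLen A N l) = c • Submodule.Quotient.mk (sym A N f)) :
    Scales θ l c := by
  intro e
  obtain ⟨d, hd⟩ := (isDet_mk (R := A) (M := N) l).exists_smul' hl f hf e
  have h2 := congrArg (isDet_admComp θ l).lift hd
  rw [map_smul, IsDet.lift_mk, IsDet.lift_mk, h] at h2
  rw [h2, hd, smul_comm]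

theorem scales_congr {N N' : Type u} [AddCommGroup N] [Module A N] [AddCommGroup N'] [Module A N'] (ε : N ≃ₗ[A] N')
    {θ : N →ₗ[A] N} {θ' : N' →ₗ[A] N'} (hθ : ∀ n, θ' (ε n) = ε (θ n)) {l : ℕ} {c : ResidueField A}
    (h : Scales θ l c) : Scales θ' l c := by
  intro e
  have h2 := congrArg (isDet_admComp ε.toLinearMap l).lift (h (admComp ε.symm.toLinearMap e))
  rw [map_smul, IsDet.lift_mk, IsDet.lift_mk] at h2
  have e1 : admComp ε.toLinearMap (admComp ε.symm.toLinearMap e) = e :=
    Subtype.ext (funext fun i ↦ ε.apply_symm_apply _)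
  have e2 : admComp ε.toLinearMap (admComp θ (admComp ε.symm.toLinearMap e)) = admComp θ' e :=
    Subtype.ext (funext fun i ↦ by
      change ε (θ (ε.symm (e.1 i))) = θ' (e.1 i)
      rw [← hθ, ε.apply_symm_apply])
  rwa [e1, e2] at h2

theorem scales_extension {K L M : Type u} [AddCommGroup K] [Module A K] [AddCommGroup L] [Module A L] [AddCommGroup M]
    [Module A M] {a b : ℕ} (hK : Module.length A K = a) (hM : Module.length A M = b) (f : K →ₗ[A] L) (g : L →ₗ[A] M)
    (hf : Function.Injective f) (hg : Function.Surjective g) (hfg : LinearMap.range f = LinearMap.ker g)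
    {θK : K →ₗ[A] K} {θ : L →ₗ[A] L} {θM : M →ₗ[A] M} (h1 : ∀ x, θ (f x) = f (θK x)) (h2 : ∀ x, g (θ x) = θM (g x))
    {cK cM : ResidueField A} (hcK : Scales θK a cK) (hcK0 : cK ≠ 0) (hcM : Scales θM b cM) :
    Scales θ (a + b) (cK * cM) := by
  obtain ⟨γ, hγ⟩ := exists_gamma hK hM f g hf hg hfg (rfl : a + b = a + b)
  obtain ⟨eK, heK⟩ := exists_strict hK
  obtain ⟨eM, heM⟩ := exists_strict hM
  have hspK := span_eq_top_of_strict hK eK heK
  have hspM := span_eq_top_of_strict hM eM heM
  choose t ht using fun j ↦ hg (eM.1 j)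
  have hgt : g ∘ t = eM.1 := funext ht
  have hadm := isAdmissible_cat f g hfg eK hspK t (by rw [hgt]; exact eM.2)
  have htop := span_cat f g hfg eK.1 hspK t (by rw [hgt]; exact hspM)
  have hlen : Module.length A L = ((a + b : ℕ) : ℕ∞) := by
    rw [Module.length_eq_add_of_exact f g hf hg (LinearMap.exact_iff.mpr hfg.symm), hK, hM, Nat.cast_add]
  refine scales_of_strict hlen ⟨_, hadm⟩ (strict_of_span_eq_top hlen ⟨_, hadm⟩ htop) ?_
  have hne : (Submodule.Quotient.mk (sym A K eK) : DetOfLen A K a) ≠ 0 := exists_linearMap_ne_zero hK eK hspK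
  have g1 := hγ eK eM ⟨_, hadm⟩ hne (fun i ↦ cat_left f eK.1 t i) (fun j ↦ (congrArg g (cat_right f eK.1 t j)).trans (ht j))
  have g2 := hγ (admComp θK eK) (admComp θM eM) (admComp θ ⟨_, hadm⟩) (by rw [hcK eK]; exact smul_ne_zero hcK0 hne)
    (fun i ↦ (congrArg θ (cat_left f eK.1 t i)).trans (h1 _))
    (fun j ↦ by
      change g (θ (cat f eK.1 t (Fin.natAdd a j))) = θM (eM.1 j)
      rw [cat_right, h2, ht])
  rw [hcK eK, hcM eM, TensorProduct.smul_tmul_smul, map_smul, g1] at g2
  exact g2.symm

theorem scales_residueField {R : Type u} [CommRing R] [IsLocalRing R] [Algebra A R] [IsLocalHom (algebraMap A R)]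
    [Module.Finite (ResidueField A) (ResidueField R)] (u : Rˣ) :
    Scales ((LinearMap.lsmul R (ResidueField R) (u : R)).restrictScalars A)
      (Module.finrank (ResidueField A) (ResidueField R)) (Algebra.norm (ResidueField A) (residue R (u : R))) := by
  set θ := (LinearMap.lsmul R (ResidueField R) (u : R)).restrictScalars A
  set l := Module.finrank (ResidueField A) (ResidueField R) with hl
  have hlen : Module.length A (ResidueField R) = (l : ℕ∞) := length_eq_finrank
  let b := Module.finBasisOfFinrankEq (ResidueField A) (ResidueField R) hl.symm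
  let Λ := ((isDet_ιMulti (R := A) (M := ResidueField R) l).comp (exteriorPower.alternatingMapLinearEquiv b.det)).lift
  have hΛ : ∀ e : Adm A (ResidueField R) l, Λ (Submodule.Quotient.mk (sym A (ResidueField R) e)) = b.det e.1 := fun e ↦ by
    simp only [Λ]
    rw [IsDet.lift_mk, exteriorPower.alternatingMapLinearEquiv_apply_ιMulti]
  obtain ⟨e, he⟩ := exists_strict hlen
  refine scales_of_strict hlen e he ?_
  obtain ⟨c, hc⟩ := (isDet_mk (R := A) (M := ResidueField R) l).exists_smul' hlen e he (admComp θ e)
  rw [hc]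
  have h2 := congrArg Λ hc
  rw [map_smul, hΛ, hΛ, smul_eq_mul] at h2
  have hcomp : (admComp θ e).1 = ⇑(LinearMap.mulLeft (ResidueField A) (residue R (u : R))) ∘ e.1 := funext fun i ↦ by
    change (u : R) • e.1 i = residue R (u : R) * e.1 i
    rw [Algebra.smul_def]; rfl
  rw [hcomp, Module.Basis.det_comp] at h2
  have hspan : Submodule.span (ResidueField A) (Set.range e.1) = ⊤ := by
    refine eq_top_iff.mpr fun x _ ↦ ?_
    have hx : x ∈ Submodule.span A (Set.range e.1) := (span_eq_top_of_strict hlen e he).ge Submodule.mem_top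
    exact Submodule.span_le_restrictScalars A (ResidueField A) _ hx
  have hdet : b.det e.1 ≠ 0 :=
    ((Module.Basis.is_basis_iff_det b).mp ⟨linearIndependent_of_top_le_span_of_card_eq_finrank hspan.ge (by simp [l]), hspan⟩).ne_zero
  congr 1
  rw [← mul_right_cancel₀ hdet h2]
  rfl

/-- a unit of a local algebra scales the symbols of a finite length module by a power of its norm -/
theorem scales_smul {R : Type u} [CommRing R] [IsLocalRing R] [Algebra A R] [IsLocalHom (algebraMap A R)]
    [Module.Finite (ResidueField A) (ResidueField R)] (u : Rˣ) (N : Type u) [AddCommGroup N] [Module R N]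
    [Module A N] [IsScalarTower A R N] (hN : IsFiniteLength R N) :
    Module.length A N = ((Module.finrank (ResidueField A) (ResidueField R) * (Module.length R N).toNat : ℕ) : ℕ∞) ∧
    Scales ((LinearMap.lsmul R N (u : R)).restrictScalars A)
      (Module.finrank (ResidueField A) (ResidueField R) * (Module.length R N).toNat)
      (Algebra.norm (ResidueField A) (residue R (u : R)) ^ (Module.length R N).toNat) := by
  suffices main : ∀ (P : Type u) [AddCommGroup P] [Module R P], IsFiniteLength R P →
      ∀ [Module A P] [IsScalarTower A R P],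
      Module.length A P = ((Module.finrank (ResidueField A) (ResidueField R) * (Module.length R P).toNat : ℕ) : ℕ∞) ∧
        Scales ((LinearMap.lsmul R P (u : R)).restrictScalars A)
          (Module.finrank (ResidueField A) (ResidueField R) * (Module.length R P).toNat)
          (Algebra.norm (ResidueField A) (residue R (u : R)) ^ (Module.length R P).toNat) from main N hN
  clear hN
  intro P _ _ hP
  induction hP with
  | @of_subsingleton P _ _ _ =>
    intro _ _
    have h0 : (Module.length R P).toNat = 0 := by rw [Module.length_eq_zero]; rfl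
    rw [h0, mul_zero, pow_zero]
    refine ⟨by rw [Module.length_eq_zero, Nat.cast_zero], fun e ↦ ?_⟩
    rw [one_smul, show admComp ((LinearMap.lsmul R P (u : R)).restrictScalars A) e = e from
      Subtype.ext (funext fun i ↦ Subsingleton.elim _ _)]
  | @of_simple_quotient P _ _ N' hsimp hN' ih =>
    intro _ _
    obtain ⟨hlK, hsK⟩ := ih
    obtain ⟨q, hq, ⟨ε⟩⟩ := isSimpleModule_iff_quot_maximal.mp hsimp
    obtain rfl := IsLocalRing.eq_maximalIdeal hq
    have hsM0 := scales_residueField (A := A) u
    have hlM : Module.length A (P ⧸ N') = (Module.finrank (ResidueField A) (ResidueField R) : ℕ∞) :=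
      (ε.restrictScalars A).length_eq.trans (length_eq_finrank (R := A) (M := ResidueField R))
    have hsM : Scales ((LinearMap.lsmul R (P ⧸ N') (u : R)).restrictScalars A)
        (Module.finrank (ResidueField A) (ResidueField R)) (Algebra.norm (ResidueField A) (residue R (u : R))) :=
      scales_congr (ε.restrictScalars A).symm (fun n ↦ (map_smul ε.symm (u : R) n).symm) hsM0
    have hRlen : (Module.length R P).toNat = (Module.length R N').toNat + 1 := by
      rw [Module.length_eq_add_of_exact N'.subtype N'.mkQ N'.injective_subtype N'.mkQ_surjective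
        (LinearMap.exact_subtype_mkQ N'), Module.length_eq_one R (P ⧸ N'),
        ENat.toNat_add (Module.length_ne_top_iff.mpr hN') ENat.one_ne_top]
      rfl
    have hext := scales_extension hlK hlM (N'.subtype.restrictScalars A) (N'.mkQ.restrictScalars A) N'.injective_subtype
      N'.mkQ_surjective (SetLike.ext fun x ↦ by
        simp [Submodule.Quotient.mk_eq_zero])
      (θK := (LinearMap.lsmul R N' (u : R)).restrictScalars A) (θ := (LinearMap.lsmul R P (u : R)).restrictScalars A)
      (θM := (LinearMap.lsmul R (P ⧸ N') (u : R)).restrictScalars A) (fun x ↦ rfl) (fun x ↦ rfl) hsK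
      (pow_ne_zero _ (Algebra.norm_ne_zero_iff.mpr ((residue_ne_zero_iff_isUnit _).mpr u.isUnit))) hsM
    rw [hRlen, pow_succ, mul_add, mul_one]
    refine ⟨?_, hext⟩
    rw [Module.length_eq_add_of_exact (N'.subtype.restrictScalars A) (N'.mkQ.restrictScalars A)
      N'.injective_subtype N'.mkQ_surjective (LinearMap.exact_subtype_mkQ N'), hlK, hlM, Nat.cast_add]

end Groth.Agent.CycTameLib
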