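import Mathlib
import Groth.Agent.CycTameLib.Scale
import Groth.Agent.CycTameLib.Local
import Groth.Agent.CycDetLib.Periodic

/-!
# The periodic ratio of `R/(π^n)` with a factorised pair
-/

set_option autoImplicit false

universe u

open IsLocalRing CycDet Groth.Agent.CycDetLib

namespace Groth.Agent.CycTameLib

variable {A : Type u} [CommRing A] [IsLocalRing A] {R : Type u} [CommRing R] [IsLocalRing R] [Algebra A R]

theorem pos_of_fin {n l : ℕ} (k : Fin (n * l)) : 0 < l :=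
  Nat.pos_of_ne_zero fun h ↦ absurd k.isLt (by simp [h])

theorem div_lt_of_fin {n l k : ℕ} (h : k < n * l) : k / l < n :=
  Nat.div_lt_of_lt_mul (lt_of_lt_of_eq h (Nat.mul_comm n l))

section Blocks

variable (π : R) {l₀ : ℕ} (t : Fin l₀ → R)

/-- the tuple of blocks `π^(n-1) t, …, t` in `R/(π^n)` -/
noncomputable def blk (n : ℕ) : Fin (n * l₀) → R ⧸ Ideal.span {π ^ n} := fun k ↦
  Ideal.Quotient.mk (Ideal.span {π ^ n}) (π ^ (n - 1 - (k : ℕ) / l₀) * t ⟨(k : ℕ) % l₀,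
    Nat.mod_lt _ (pos_of_fin k)⟩)

theorem isAdmissible_blk (n : ℕ)
    (ht : ∀ (j : Fin l₀) (r : A), r ∈ maximalIdeal A →
      ∃ y ∈ Submodule.span A (t '' {i | (i : ℕ) < j}), r • t j - y ∈ (Ideal.span {π} : Ideal R))
    (hsp : ∀ x : R, ∃ y ∈ Submodule.span A (Set.range t), x - y ∈ (Ideal.span {π} : Ideal R)) :
    IsAdmissible A (R ⧸ Ideal.span {π ^ n}) (blk π t n) ∧ Submodule.span A (Set.range (blk π t n)) = ⊤ := by
  let mk : R →ₗ[A] R ⧸ Ideal.span {π ^ n} := (Ideal.Quotient.mkₐ A _).toLinearMap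
  let e := blk π t n
  have hblk : ∀ (k : ℕ) (hk : k < n) (j : Fin l₀) (h : k * l₀ + j < n * l₀),
      e ⟨k * l₀ + j, h⟩ = mk (π ^ (n - 1 - k) * t j) := fun k hk j h ↦ by
    have hl : 0 < l₀ := j.pos
    change Ideal.Quotient.mk _ (π ^ (n - 1 - (k * l₀ + j) / l₀) * t ⟨(k * l₀ + j) % l₀, _⟩) = _
    have h1 : (k * l₀ + (j : ℕ)) / l₀ = k := by
      rw [add_comm, Nat.add_mul_div_right _ _ hl, Nat.div_eq_of_lt j.isLt, zero_add]
    have h2 : (k * l₀ + (j : ℕ)) % l₀ = j := by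
      rw [add_comm, Nat.add_mul_mod_self_right, Nat.mod_eq_of_lt j.isLt]
    simp only [h1, h2]
    rfl
  have hC : ∀ k ≤ n, ∀ x : R, mk (π ^ (n - k) * x) ∈ spanBefore A (R ⧸ Ideal.span {π ^ n}) e (k * l₀) := by
    intro k
    induction k with
    | zero =>
      intro _ x
      rw [show mk (π ^ (n - 0) * x) = 0 from Ideal.Quotient.eq_zero_iff_mem.mpr
        (Ideal.mem_span_singleton'.mpr ⟨x, by rw [Nat.sub_zero, mul_comm]⟩)]
      exact zero_mem _
    | succ k ih =>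
      intro hk x
      obtain ⟨y, hy, hxy⟩ := hsp x
      obtain ⟨s, hs⟩ := Ideal.mem_span_singleton'.mp hxy
      rw [show π ^ (n - (k + 1)) * x = π ^ (n - (k + 1)) * y + π ^ (n - k) * s by
        rw [show n - k = n - (k + 1) + 1 by omega, pow_succ, mul_assoc, mul_comm π s, hs]; ring, map_add]
      refine add_mem ?_ (spanBefore_mono e (Nat.mul_le_mul_right _ (Nat.le_succ k)) (ih (by omega) s))
      let L : R →ₗ[A] R ⧸ Ideal.span {π ^ n} := mk ∘ₗ LinearMap.mulLeft A (π ^ (n - (k + 1)))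
      refine (Submodule.map_le_iff_le_comap.mpr (Submodule.span_le.mpr ?_)) (Submodule.mem_map_of_mem (f := L) hy)
      rintro _ ⟨j, rfl⟩
      rw [SetLike.mem_coe, Submodule.mem_comap]
      have hlt : k * l₀ + j < n * l₀ := by
        have := j.isLt
        calc k * l₀ + (j : ℕ) < k * l₀ + l₀ := by omega
          _ = (k + 1) * l₀ := by ring
          _ ≤ n * l₀ := Nat.mul_le_mul_right _ hk
      rw [show L (t j) = e ⟨k * l₀ + j, hlt⟩ by rw [hblk k (by omega) j]; simp [L, Nat.sub_sub, add_comm]]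
      exact mem_spanBefore e (show k * l₀ + (j : ℕ) < (k + 1) * l₀ by have := j.isLt; rw [add_mul, one_mul]; omega)
  refine ⟨fun i r hr ↦ ?_, ?_⟩
  · have hl : 0 < l₀ := pos_of_fin i
    obtain ⟨k, j, hk, hkj⟩ : ∃ (k : ℕ) (j : Fin l₀), k < n ∧ (i : ℕ) = k * l₀ + j :=
      ⟨(i : ℕ) / l₀, ⟨(i : ℕ) % l₀, Nat.mod_lt _ hl⟩, div_lt_of_fin i.isLt,
        (Nat.div_add_mod' _ _).symm⟩
    have hi : k * l₀ + (j : ℕ) < n * l₀ := hkj ▸ i.isLt
    obtain rfl : (⟨k * l₀ + j, hi⟩ : Fin (n * l₀)) = i := Fin.ext hkj.symm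
    obtain ⟨y, hy, hry⟩ := ht j r hr
    obtain ⟨s, hs⟩ := Ideal.mem_span_singleton'.mp hry
    change r • e _ ∈ spanBefore A _ e (k * l₀ + j)
    rw [hblk k hk j, ← map_smul, show r • (π ^ (n - 1 - k) * t j) = π ^ (n - 1 - k) * y + π ^ (n - k) * s by
      rw [show n - k = n - 1 - k + 1 by omega, pow_succ, mul_assoc, mul_comm π s, hs, ← mul_smul_comm]; ring, map_add]
    refine add_mem ?_ (spanBefore_mono e (Nat.le_add_right _ _) (hC k (by omega) s))
    let L : R →ₗ[A] R ⧸ Ideal.span {π ^ n} := mk ∘ₗ LinearMap.mulLeft A (π ^ (n - 1 - k))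
    refine (Submodule.map_le_iff_le_comap.mpr (Submodule.span_le.mpr ?_)) (Submodule.mem_map_of_mem (f := L) hy)
    rintro _ ⟨j', hj', rfl⟩
    rw [SetLike.mem_coe, Submodule.mem_comap]
    have hlt : k * l₀ + j' < n * l₀ := by
      have := hi
      have : (j' : ℕ) < j := hj'
      omega
    rw [show L (t j') = e ⟨k * l₀ + j', hlt⟩ by rw [hblk k hk j']; rfl]
    exact mem_spanBefore e (show k * l₀ + (j' : ℕ) < k * l₀ + j by have : (j' : ℕ) < j := hj'; omega)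
  · refine eq_top_iff.mpr fun z _ ↦ ?_
    obtain ⟨x, rfl⟩ := Ideal.Quotient.mk_surjective z
    have h := hC n le_rfl x
    rw [Nat.sub_self, pow_zero, one_mul, spanBefore_top] at h
    exact h

end Blocks

variable [IsNoetherianRing R] [Ring.KrullDimLE 1 R] [IsLocalHom (algebraMap A R)]
  [Module.Finite (ResidueField A) (ResidueField R)]

/-- multiplication by a scalar, as a map over the base -/
noncomputable abbrev mulA (I : Ideal R) (a : R) : (R ⧸ I) →ₗ[A] (R ⧸ I) :=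
  (LinearMap.lsmul R (R ⧸ I) a).restrictScalars A

theorem exists_ratio {π : R} (hπ : π ∈ nonZeroDivisors R) (u v : Rˣ) (e₁ e₂ : ℕ) :
    ∃ r : ResidueField A, IsPeriodicRatio (mulA (A := A) (Ideal.span {π ^ (e₁ + e₂)}) ((u : R) * π ^ e₁))
        (mulA (A := A) (Ideal.span {π ^ (e₁ + e₂)}) ((v : R) * π ^ e₂)) r ∧
      r * (Algebra.norm (ResidueField A) (residue R (u : R)) ^ (e₂ * (Ring.ord R π).toNat) *
        Algebra.norm (ResidueField A) (residue R ((v⁻¹ : Rˣ) : R)) ^ (e₁ * (Ring.ord R π).toNat)) = 1 := by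
  set m := (Ring.ord R π).toNat
  set d := Module.finrank (ResidueField A) (ResidueField R)
  have hfl : ∀ n : ℕ, IsFiniteLength R (R ⧸ Ideal.span {π ^ n}) := fun n ↦
    isFiniteLength_quotient_span_singleton R (pow_mem hπ n)
  have hlenR : ∀ n : ℕ, (Module.length R (R ⧸ Ideal.span {π ^ n})).toNat = n * m := fun n ↦ by
    change (Ring.ord R (π ^ n)).toNat = _
    have := ord_pow_toNat hπ 1 n
    simpa using this
  have hscale : ∀ (n : ℕ) (w : Rˣ), Module.length A (R ⧸ Ideal.span {π ^ n}) = ((n * (d * m) : ℕ) : ℕ∞) ∧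
      Scales (mulA (A := A) (Ideal.span {π ^ n}) (w : R)) (n * (d * m))
        (Algebra.norm (ResidueField A) (residue R (w : R)) ^ (n * m)) := fun n w ↦ by
    have h := scales_smul (A := A) w (R ⧸ Ideal.span {π ^ n}) (hfl n)
    rw [hlenR] at h
    have e : n * (d * m) = d * (n * m) := by ring
    rw [e]
    exact h
  set l₀ := d * m with hl₀
  have hl1 : Module.length A (R ⧸ Ideal.span {π}) = (l₀ : ℕ∞) := by
    have h := (hscale 1 1).1
    rwa [pow_one, one_mul] at h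
  obtain ⟨g, hg⟩ := exists_strict hl1
  choose t ht using fun j ↦ Ideal.Quotient.mk_surjective (g.1 j)
  let mk1 : R →ₗ[A] R ⧸ Ideal.span {π} := (Ideal.Quotient.mkₐ A _).toLinearMap
  have hgt : ∀ s : Set (Fin l₀), g.1 '' s = mk1 '' (t '' s) := fun s ↦ by
    rw [← Set.image_comp]
    exact Set.image_congr fun j _ ↦ (ht j).symm
  have hadm : ∀ (j : Fin l₀) (r : A), r ∈ maximalIdeal A →
      ∃ y ∈ Submodule.span A (t '' {i | (i : ℕ) < j}), r • t j - y ∈ (Ideal.span {π} : Ideal R) := fun j r hr ↦ by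
    have h := g.2 j r hr
    rw [spanBefore, hgt, ← Submodule.map_span] at h
    obtain ⟨y, hy, hyeq⟩ := h
    refine ⟨y, hy, Ideal.Quotient.eq.mp ?_⟩
    rw [← ht j] at hyeq
    exact hyeq.symm
  have hspan : ∀ x : R, ∃ y ∈ Submodule.span A (Set.range t), x - y ∈ (Ideal.span {π} : Ideal R) := fun x ↦ by
    have h : mk1 x ∈ Submodule.span A (Set.range g.1) := (span_eq_top_of_strict hl1 g hg).ge Submodule.mem_top
    rw [← Set.image_univ, hgt, Set.image_univ, ← Submodule.map_span] at h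
    obtain ⟨y, hy, hyeq⟩ := h
    exact ⟨y, hy, Ideal.Quotient.eq.mp hyeq.symm⟩
  have hB := fun n ↦ isAdmissible_blk (A := A) π t n hadm hspan
  set V := R ⧸ Ideal.span {π ^ (e₁ + e₂)}
  have hl : e₁ * l₀ + e₂ * l₀ = (e₁ + e₂) * l₀ := (add_mul _ _ _).symm
  let e : Adm A V ((e₁ + e₂) * l₀) := ⟨blk π t (e₁ + e₂), (hB (e₁ + e₂)).1⟩
  have hlenV := (hscale (e₁ + e₂) 1).1
  -- the extension `R/π^e₂ → R/π^(e₁+e₂) → R/π^e₁`
  let F₀ : R →ₗ[R] V := (Ideal.span {π ^ (e₁ + e₂)} : Submodule R R).mkQ ∘ₗ LinearMap.mulLeft R (π ^ e₁)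
  have hF₀ker : (Ideal.span {π ^ e₂} : Submodule R R) = LinearMap.ker F₀ := by
    ext x
    rw [LinearMap.mem_ker]
    change _ ↔ (Submodule.Quotient.mk (π ^ e₁ * x) : V) = 0
    rw [Submodule.Quotient.mk_eq_zero, Ideal.mem_span_singleton', Ideal.mem_span_singleton']
    refine ⟨fun ⟨c, hc⟩ ↦ ⟨c, by rw [← hc, pow_add]; ring⟩, fun ⟨c, hc⟩ ↦ ⟨c, ?_⟩⟩
    refine (mul_cancel_left_mem_nonZeroDivisors (pow_mem hπ e₁)).mp ?_
    rw [← hc, pow_add]; ring
  let F : (R ⧸ Ideal.span {π ^ e₂}) →ₗ[R] V := Submodule.liftQ _ F₀ hF₀ker.le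
  have hFinj : Function.Injective F := LinearMap.ker_eq_bot.mp (Submodule.ker_liftQ_eq_bot _ _ _ hF₀ker.ge)
  have hle : Ideal.span {π ^ (e₁ + e₂)} ≤ Ideal.span {π ^ e₁} :=
    Ideal.span_singleton_le_span_singleton.mpr (pow_dvd_pow π (Nat.le_add_right _ _))
  let G : V →ₗ[R] R ⧸ Ideal.span {π ^ e₁} := Submodule.factor hle
  have hFG : LinearMap.range F = LinearMap.ker G := by
    ext z
    obtain ⟨x, rfl⟩ := Submodule.Quotient.mk_surjective _ z
    rw [LinearMap.mem_ker]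
    change _ ↔ (Submodule.Quotient.mk x : R ⧸ Ideal.span {π ^ e₁}) = 0
    rw [Submodule.Quotient.mk_eq_zero, Ideal.mem_span_singleton']
    refine ⟨?_, fun ⟨c, hc⟩ ↦ ⟨Submodule.Quotient.mk c, ?_⟩⟩
    · rintro ⟨w, hw⟩
      obtain ⟨y, rfl⟩ := Submodule.Quotient.mk_surjective _ w
      obtain ⟨c, hc⟩ := Ideal.mem_span_singleton'.mp ((Submodule.Quotient.eq _).mp hw)
      refine ⟨y - c * π ^ e₂, ?_⟩
      rw [pow_add] at hc
      simp only [LinearMap.mulLeft_apply] at hc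
      linear_combination hc * (-1 : R)
    · change (Submodule.Quotient.mk (π ^ e₁ * c) : V) = Submodule.Quotient.mk x
      rw [← hc, mul_comm]
  obtain ⟨γ, hγ⟩ := exists_gamma (hscale e₂ 1).1 (hscale e₁ 1).1 (F.restrictScalars A) (G.restrictScalars A) hFinj
    (Submodule.factor_surjective hle) (SetLike.ext fun z ↦ SetLike.ext_iff.mp hFG z)
    (show e₂ * l₀ + e₁ * l₀ = (e₁ + e₂) * l₀ by ring)
  let eK : Adm A (R ⧸ Ideal.span {π ^ e₂}) (e₂ * l₀) := ⟨blk π t e₂, (hB e₂).1⟩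
  let eM : Adm A (R ⧸ Ideal.span {π ^ e₁}) (e₁ * l₀) := ⟨blk π t e₁, (hB e₁).1⟩
  have hneK : (Submodule.Quotient.mk (sym A _ eK) : DetOfLen A (R ⧸ Ideal.span {π ^ e₂}) (e₂ * l₀)) ≠ 0 :=
    exists_linearMap_ne_zero (hscale e₂ 1).1 eK (hB e₂).2
  have hval : ∀ (n : ℕ) (k : Fin (n * l₀)), 0 < l₀ := fun n k ↦
    pos_of_fin k
  have hiK : ∀ i : Fin (e₂ * l₀), (i : ℕ) < (e₁ + e₂) * l₀ := fun i ↦ by have := i.isLt; rw [add_mul]; omega
  have hiM : ∀ j : Fin (e₁ * l₀), e₂ * l₀ + (j : ℕ) < (e₁ + e₂) * l₀ := fun j ↦ by have := j.isLt; rw [add_mul]; omega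
  have heK : ∀ i : Fin (e₂ * l₀), e.1 ⟨i, hiK i⟩ = F (eK.1 i) := fun i ↦ by
    have hi : (i : ℕ) / l₀ < e₂ := div_lt_of_fin i.isLt
    change (Submodule.Quotient.mk _ : V) = Submodule.Quotient.mk (π ^ e₁ * (π ^ (e₂ - 1 - (i : ℕ) / l₀) * t _))
    refine congrArg Submodule.Quotient.mk ?_
    change π ^ (e₁ + e₂ - 1 - (i : ℕ) / l₀) * t ⟨(i : ℕ) % l₀, _⟩ = _
    rw [show e₁ + e₂ - 1 - (i : ℕ) / l₀ = e₁ + (e₂ - 1 - (i : ℕ) / l₀) by omega, pow_add, mul_assoc]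
  have heM : ∀ j : Fin (e₁ * l₀), G (e.1 ⟨e₂ * l₀ + j, hiM j⟩) = eM.1 j := fun j ↦ by
    change (Submodule.Quotient.mk (π ^ (e₁ + e₂ - 1 - (e₂ * l₀ + (j : ℕ)) / l₀) *
      t ⟨(e₂ * l₀ + (j : ℕ)) % l₀, _⟩) : R ⧸ Ideal.span {π ^ e₁}) = Submodule.Quotient.mk _
    have h1 : (e₂ * l₀ + (j : ℕ)) / l₀ = e₂ + (j : ℕ) / l₀ := by
      rw [add_comm, Nat.add_mul_div_right _ _ (hval _ j), add_comm]
    have h2 : (e₂ * l₀ + (j : ℕ)) % l₀ = (j : ℕ) % l₀ := by rw [add_comm, Nat.add_mul_mod_self_right]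
    simp only [h1, h2, show e₁ + e₂ - 1 - (e₂ + (j : ℕ) / l₀) = e₁ - 1 - (j : ℕ) / l₀ by omega]
  -- the second tuple
  let w : ℕ → R := fun k ↦ if k < e₂ * l₀ then (u : R) else ((v⁻¹ : Rˣ) : R)
  let fv : Fin ((e₁ + e₂) * l₀) → V := fun k ↦ w k • e.1 k
  have hw : ∀ k, IsUnit (w k) := fun k ↦ by simp only [w]; split_ifs <;> exact Units.isUnit _
  have hfadm : IsAdmissible A V fv := by
    intro i r hr
    have hmap : ∀ (c : R) (z : V) (k : ℕ), z ∈ spanBefore A V e.1 k →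
        c • z ∈ Submodule.span A ((fun j ↦ c • e.1 j) '' {j | (j : ℕ) < k}) := fun c z k hz ↦ by
      have h := Submodule.mem_map_of_mem (f := mulA (A := A) _ c) hz
      rw [spanBefore, Submodule.map_span, ← Set.image_comp] at h
      exact h
    by_cases hi : (i : ℕ) < e₂ * l₀
    · have h1 := hmap (w i) _ i (e.2 i r hr)
      rw [smul_comm] at h1
      refine Submodule.span_mono ?_ h1
      rintro _ ⟨j, hj, rfl⟩
      exact ⟨j, hj, by simp only [fv, w]; rw [if_pos hi, if_pos (lt_trans hj hi)]⟩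
    · -- the span of the entries before contains the image of `F`
      have hhead : ∀ z ∈ spanBefore A V e.1 (e₂ * l₀), z ∈ spanBefore A V fv (i : ℕ) := by
        intro z hz
        have hz' : ((u⁻¹ : Rˣ) : R) • z ∈ spanBefore A V e.1 (e₂ * l₀) := by
          have hsub : ∀ y ∈ spanBefore A V e.1 (e₂ * l₀), y ∈ LinearMap.range F := fun y hy ↦ by
            refine (Submodule.span_le (p := (LinearMap.range F).restrictScalars A)).mpr ?_ hy
            rintro _ ⟨j, hj, rfl⟩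
            exact ⟨_, (heK ⟨j, hj⟩).symm⟩
          obtain ⟨y, hy⟩ := hsub z hz
          rw [← hy, ← map_smul]
          have hy' : ((u⁻¹ : Rˣ) : R) • y ∈ Submodule.span A (Set.range eK.1) := (hB e₂).2.ge Submodule.mem_top
          have h := Submodule.mem_map_of_mem (f := F.restrictScalars A) hy'
          rw [Submodule.map_span] at h
          refine Submodule.span_mono ?_ h
          rintro _ ⟨_, ⟨j, rfl⟩, rfl⟩
          exact ⟨⟨j, hiK j⟩, j.isLt, (heK j)⟩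
        have h1 := hmap (u : R) _ _ hz'
        rw [smul_smul, Units.mul_inv, one_smul] at h1
        refine Submodule.span_mono ?_ h1
        rintro _ ⟨j, hj, rfl⟩
        exact ⟨j, lt_of_lt_of_le hj (not_lt.mp hi), by simp only [fv, w]; rw [if_pos (show (j : ℕ) < e₂ * l₀ from hj)]⟩
      have h1 := hmap (w i) _ i (e.2 i r hr)
      rw [smul_comm] at h1
      refine (Submodule.span_le.mpr ?_) h1
      rintro _ ⟨j, hj, rfl⟩
      by_cases hj' : (j : ℕ) < e₂ * l₀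
      · refine hhead _ ?_
        have hsub : e.1 j = F (eK.1 ⟨j, hj'⟩) := heK ⟨j, hj'⟩
        rw [SetLike.mem_coe.symm.trans Iff.rfl] at *
        change w i • e.1 j ∈ spanBefore A V e.1 (e₂ * l₀)
        rw [hsub, ← map_smul]
        have hy' : w i • eK.1 ⟨j, hj'⟩ ∈ Submodule.span A (Set.range eK.1) := (hB e₂).2.ge Submodule.mem_top
        have h := Submodule.mem_map_of_mem (f := F.restrictScalars A) hy'
        rw [Submodule.map_span] at h
        refine Submodule.span_mono ?_ h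
        rintro _ ⟨_, ⟨j, rfl⟩, rfl⟩
        exact ⟨⟨j, hiK j⟩, j.isLt, (heK j)⟩
      · exact Submodule.subset_span ⟨j, hj, by simp only [fv, w]; rw [if_neg hi, if_neg hj']⟩
  let f : Adm A V ((e₁ + e₂) * l₀) := ⟨fv, hfadm⟩
  have hse : Strict (R := A) e.1 := strict_of_span_eq_top hlenV e (hB (e₁ + e₂)).2
  have hne : (Submodule.Quotient.mk (sym A V e) : DetOfLen A V ((e₁ + e₂) * l₀)) ≠ 0 :=
    exists_linearMap_ne_zero hlenV e (hB (e₁ + e₂)).2
  set cK := Algebra.norm (ResidueField A) (residue R (u : R)) ^ (e₂ * m)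
  set cM := Algebra.norm (ResidueField A) (residue R ((v⁻¹ : Rˣ) : R)) ^ (e₁ * m)
  have hcK0 : cK ≠ 0 := pow_ne_zero _ (Algebra.norm_ne_zero_iff.mpr ((residue_ne_zero_iff_isUnit _).mpr u.isUnit))
  have hcM0 : cM ≠ 0 := pow_ne_zero _ (Algebra.norm_ne_zero_iff.mpr ((residue_ne_zero_iff_isUnit _).mpr (v⁻¹).isUnit))
  have hsymf : (Submodule.Quotient.mk (sym A V f) : DetOfLen A V ((e₁ + e₂) * l₀)) =
      (cK * cM) • Submodule.Quotient.mk (sym A V e) := by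
    have g1 := hγ eK eM e hneK heK heM
    have g2 := hγ (admComp (mulA _ (u : R)) eK) (admComp (mulA _ ((v⁻¹ : Rˣ) : R)) eM) f
      (by rw [(hscale e₂ u).2 eK]; exact smul_ne_zero hcK0 hneK)
      (fun i ↦ by
        change w i • e.1 ⟨i, _⟩ = F ((u : R) • eK.1 i)
        rw [map_smul, ← heK, show w i = (u : R) from if_pos i.isLt])
      (fun j ↦ by
        change G (w (e₂ * l₀ + j) • e.1 ⟨e₂ * l₀ + j, _⟩) = ((v⁻¹ : Rˣ) : R) • eM.1 j
        rw [map_smul, heM, show w (e₂ * l₀ + (j : ℕ)) = ((v⁻¹ : Rˣ) : R) from if_neg (by omega)])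
    rw [(hscale e₂ u).2 eK, (hscale e₁ v⁻¹).2 eM, TensorProduct.smul_tmul_smul, map_smul, g1] at g2
    exact g2.symm
  have hsf : Strict (R := A) f.1 := by
    by_contra h
    exact smul_ne_zero (mul_ne_zero hcK0 hcM0) hne (hsymf ▸ (isDet_mk (R := A) _).eq_zero f h)
  have key : ∀ (c : R) (k : Fin ((e₁ + e₂) * l₀)) (s : R) (p : ℕ),
      e₁ + e₂ ≤ p + (e₁ + e₂ - 1 - (k : ℕ) / l₀) → (c * π ^ p) • s • e.1 k = 0 := fun c k s p hp ↦ by
    rw [smul_smul]
    change (Submodule.Quotient.mk ((c * π ^ p * s) * (π ^ (e₁ + e₂ - 1 - (k : ℕ) / l₀) * t _)) : V) = 0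
    rw [Submodule.Quotient.mk_eq_zero, Ideal.mem_span_singleton]
    refine dvd_trans (pow_dvd_pow π hp) (Dvd.intro (c * s * t ⟨(k : ℕ) % l₀, Nat.mod_lt _ (pos_of_fin k)⟩) ?_)
    rw [pow_add]; ring
  have kdiv : ∀ (b : ℕ) (k : Fin ((e₁ + e₂) * l₀)) (h : (k : ℕ) < b * l₀), (k : ℕ) / l₀ < b := fun b k h ↦
    div_lt_of_fin h
  have shift : ∀ (p b : ℕ) (hpb : p + b = e₁ + e₂) (c : R) (j : Fin (b * l₀)) (h1 : p * l₀ + (j : ℕ) < (e₁ + e₂) * l₀)
      (h2 : (j : ℕ) < (e₁ + e₂) * l₀), (c * π ^ p) • e.1 ⟨p * l₀ + j, h1⟩ = c • e.1 ⟨j, h2⟩ := fun p b hpb c j h1 h2 ↦ by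
    change (Submodule.Quotient.mk ((c * π ^ p) * (π ^ (e₁ + e₂ - 1 - (p * l₀ + (j : ℕ)) / l₀) *
      t ⟨(p * l₀ + (j : ℕ)) % l₀, _⟩)) : V) =
      Submodule.Quotient.mk (c * (π ^ (e₁ + e₂ - 1 - (j : ℕ) / l₀) * t ⟨(j : ℕ) % l₀, _⟩))
    have hj : (j : ℕ) / l₀ < b := div_lt_of_fin j.isLt
    have h1' : (p * l₀ + (j : ℕ)) / l₀ = p + (j : ℕ) / l₀ := by
      rw [add_comm, Nat.add_mul_div_right _ _ (hval _ j), add_comm]
    have h2' : (p * l₀ + (j : ℕ)) % l₀ = (j : ℕ) % l₀ := by rw [add_comm, Nat.add_mul_mod_self_right]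
    simp only [h1', h2']
    congr 1
    rw [show e₁ + e₂ - 1 - (j : ℕ) / l₀ = p + (e₁ + e₂ - 1 - (p + (j : ℕ) / l₀)) by omega, pow_add]
    ring
  refine ⟨(cK * cM)⁻¹, ⟨(e₁ + e₂) * l₀, e₁ * l₀, e₂ * l₀, hl, e, f, hlenV, hse, hsf, fun i hi ↦ ?_, fun j ↦ ?_,
    fun i hi ↦ ?_, fun i ↦ ?_, ?_⟩, inv_mul_cancel₀ (mul_ne_zero hcK0 hcM0)⟩
  · have := key (u : R) i 1 e₁ (by have := kdiv e₁ i hi; omega)
    rwa [one_smul] at this
  · change ((u : R) * π ^ e₁) • e.1 _ = w j • e.1 _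
    rw [show w j = (u : R) from if_pos j.isLt]
    exact shift e₁ e₂ rfl u j _ _
  · exact key (v : R) i _ e₂ (by have := kdiv e₂ i hi; omega)
  · change ((v : R) * π ^ e₂) • w (e₂ * l₀ + i) • e.1 _ = e.1 _
    rw [show w (e₂ * l₀ + (i : ℕ)) = ((v⁻¹ : Rˣ) : R) from if_neg (by omega), smul_smul,
      show (v : R) * π ^ e₂ * ((v⁻¹ : Rˣ) : R) = 1 * π ^ e₂ by rw [mul_right_comm, Units.mul_inv]]
    rw [shift e₂ e₁ (add_comm _ _) 1 i _ (by have := i.isLt; rw [add_mul]; omega), one_smul]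
  · rw [hsymf, smul_smul, inv_mul_cancel₀ (mul_ne_zero hcK0 hcM0), one_smul]

end Groth.Agent.CycTameLib
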