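import Mathlib
import Groth.Agent.CycTameLib.Ratio
import Groth.Agent.CycTameLib.OrdHom
import Groth.Agent.CycTameLib.Extend

/-!
# The Herbrand quotient of a lattice in one component
-/

set_option autoImplicit false

universe u

open IsLocalRing CycDet Groth.Agent.CycDetLib

namespace Groth.Agent.CycTameLib

variable {A : Type u} [CommRing A] [IsNoetherianRing A] [IsLocalRing A] {P : Ideal A} [P.IsPrime]
  {S : Type u} [CommRing S] [IsLocalRing S] [IsNoetherianRing S] [Ring.KrullDimLE 1 S]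
  [Algebra (Localization.AtPrime P) S] [IsLocalHom (algebraMap (Localization.AtPrime P) S)]
  [Algebra A S] [IsScalarTower A (Localization.AtPrime P) S]
  [Module.Finite (ResidueField (Localization.AtPrime P)) (ResidueField S)]

theorem ordFrac_norm_raw_eq (hP : ringKrullDim (A ⧸ P) = 1) {π : S} (u v : Sˣ) (e₁ e₂ : ℕ) (r : P.ResidueField)
    (hr0 : r ≠ 0)
    (hr : r * (Algebra.norm (ResidueField (Localization.AtPrime P)) (residue S (u : S)) ^ (e₂ * (Ring.ord S π).toNat) *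
      Algebra.norm (ResidueField (Localization.AtPrime P)) (residue S ((v⁻¹ : Sˣ) : S)) ^ (e₁ * (Ring.ord S π).toNat)) = 1) :
    CycAlg.ordFrac (A ⧸ P) P.ResidueField (Algebra.norm (ResidueField (Localization.AtPrime P)) (raw π u v e₁ e₂)) =
      -CycAlg.ordFrac (A ⧸ P) P.ResidueField r := by
  set m := (Ring.ord S π).toNat
  let N : ResidueField S →* P.ResidueField := Algebra.norm (ResidueField (Localization.AtPrime P))
  have hvinv : residue S ((v⁻¹ : Sˣ) : S) = (residue S (v : S))⁻¹ :=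
    eq_inv_of_mul_eq_one_left (by rw [← map_mul, Units.inv_mul, map_one])
  change r * (N (residue S (u : S)) ^ (e₂ * m) * N (residue S ((v⁻¹ : Sˣ) : S)) ^ (e₁ * m)) = 1 at hr
  change CycAlg.ordFrac (A ⧸ P) P.ResidueField (N (raw π u v e₁ e₂)) = _
  have hs : N (-1) * N (-1) = 1 := by rw [← map_mul]; simp
  set ε := N (-1) ^ (e₁ * e₂ * m)
  have hε : ε * ε = 1 := by rw [← mul_pow, hs, one_pow]
  have hraw : N (raw π u v e₁ e₂) * r = ε := by
    have h : raw π u v e₁ e₂ = (-1) ^ (e₁ * e₂ * m) *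
        (residue S (u : S) ^ (e₂ * m) * residue S ((v⁻¹ : Sˣ) : S) ^ (e₁ * m)) := by
      simp only [raw, base, hvinv, mul_pow, inv_pow, ← pow_mul]
      ring
    rw [h, map_mul, map_mul, map_pow, map_pow, map_pow, mul_assoc, mul_comm _ r, hr, mul_one]
  have hNne : N (raw π u v e₁ e₂) ≠ 0 := fun h ↦ by
    rw [h, zero_mul] at hraw
    rw [← hraw, zero_mul] at hε
    exact zero_ne_one hε
  have h2 := ordFrac_mul hP.le hNne hr0
  rw [hraw, ordFrac_sign hP.le hε] at h2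
  omega

theorem component (hP : ringKrullDim (A ⧸ P) = 1) {π : S} (hπ : π ∈ nonZeroDivisors S) (u v : Sˣ) (e₁ e₂ : ℕ)
    (a b : A) (ha : algebraMap A S a = (u : S) * π ^ e₁) (hb : algebraMap A S b = (v : S) * π ^ e₂)
    (W : Submodule A (S ⧸ Ideal.span {π ^ (e₁ + e₂)})) (hW : W.FG)
    (hgen : ∀ z : S ⧸ Ideal.span {π ^ (e₁ + e₂)}, ∃ s ∉ P, s • z ∈ W) :
    CycAlg.FinCoh A (LinearMap.lsmul A W a) (LinearMap.lsmul A W b) ∧
      CycAlg.herbrand A (LinearMap.lsmul A W a) (LinearMap.lsmul A W b) =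
        -CycAlg.ordFrac (A ⧸ P) P.ResidueField (Algebra.norm (ResidueField (Localization.AtPrime P)) (raw π u v e₁ e₂)) := by
  set V := S ⧸ Ideal.span {π ^ (e₁ + e₂)}
  obtain ⟨r, hr, hr1⟩ := exists_ratio (A := Localization.AtPrime P) hπ u v e₁ e₂
  set φ := mulA (A := Localization.AtPrime P) (Ideal.span {π ^ (e₁ + e₂)}) ((u : S) * π ^ e₁)
  set ψ := mulA (A := Localization.AtPrime P) (Ideal.span {π ^ (e₁ + e₂)}) ((v : S) * π ^ e₂)
  have hφ : ∀ z : V, φ z = a • z := fun z ↦ by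
    change ((u : S) * π ^ e₁) • z = _
    rw [← ha, IsScalarTower.algebraMap_smul]
  have hψ : ∀ z : V, ψ z = b • z := fun z ↦ by
    change ((v : S) * π ^ e₂) • z = _
    rw [← hb, IsScalarTower.algebraMap_smul]
  have hzero : ∀ z : V, ((u : S) * π ^ e₁ * ((v : S) * π ^ e₂)) • z = 0 := fun z ↦ by
    obtain ⟨x, rfl⟩ := Submodule.Quotient.mk_surjective _ z
    rw [← Submodule.Quotient.mk_smul, Submodule.Quotient.mk_eq_zero, Ideal.mem_span_singleton']
    exact ⟨(u : S) * (v : S) * x, by rw [smul_eq_mul, pow_add]; ring⟩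
  have hφψ : φ ∘ₗ ψ = 0 := LinearMap.ext fun z ↦ by
    change ((u : S) * π ^ e₁) • ((v : S) * π ^ e₂) • z = 0
    rw [smul_smul, hzero]
  have hψφ : ψ ∘ₗ φ = 0 := LinearMap.ext fun z ↦ by
    change ((v : S) * π ^ e₂) • ((u : S) * π ^ e₁) • z = 0
    rw [smul_smul, mul_comm, hzero]
  have hφM : ∀ z ∈ W, φ.restrictScalars A z ∈ W := fun z hz ↦ by
    rw [LinearMap.restrictScalars_apply, hφ]; exact W.smul_mem _ hz
  have hψM : ∀ z ∈ W, ψ.restrictScalars A z ∈ W := fun z hz ↦ by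
    rw [LinearMap.restrictScalars_apply, hψ]; exact W.smul_mem _ hz
  obtain ⟨hr0, hfin, hh⟩ := herbrand_eq_ord hP W hW hgen φ ψ hφψ hψφ hφM hψM r hr
  have e1 : (φ.restrictScalars A).restrict hφM = LinearMap.lsmul A W a :=
    LinearMap.ext fun z ↦ Subtype.ext (hφ z.1)
  have e2 : (ψ.restrictScalars A).restrict hψM = LinearMap.lsmul A W b :=
    LinearMap.ext fun z ↦ Subtype.ext (hψ z.1)
  rw [e1, e2] at hfin hh
  refine ⟨hfin, ?_⟩
  rw [hh, ordFrac_norm_raw_eq hP u v e₁ e₂ r hr0 hr1, neg_neg]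

end Groth.Agent.CycTameLib
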