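import Mathlib
import Groth.Agent.CycTameLib.OrdHom
import Groth.Agent.CycAlgLib.RLen
import Groth.Agent.CycAlgLib.Herbrand

/-!
# Global pieces of the key lemma: Chinese remainder, the lattice, the comparison
-/

set_option autoImplicit false

universe u

open IsLocalRing Groth.Agent.CycAlgLib

namespace Groth.Agent.CycTameLib

section CRT

variable {B : Type u} [CommRing B]

theorem coprime_comap {K : Ideal B} (m : Ideal B) [m.IsMaximal]
    (hK : ∀ h ∈ m, ∃ k : ℕ, h ^ k ∈ K) (J : Ideal B) (hJ : ¬ J ≤ m) : K ⊔ J = ⊤ := by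
  by_contra hne
  obtain ⟨Q, hQ, hle⟩ := Ideal.exists_le_maximal _ hne
  by_cases hQm : Q = m
  · exact hJ (hQm ▸ le_sup_right.trans hle)
  · have hmQ : m ≤ Q := fun h hh ↦ by
      obtain ⟨k, hk⟩ := hK h hh
      exact hQ.isPrime.mem_of_pow_mem k (hle (Ideal.mem_sup_left hk))
    exact hQm ((‹m.IsMaximal›.eq_of_le hQ.ne_top hmQ).symm)

/-- joint surjectivity onto thickened points at all maximal ideals -/
theorem exists_crt [Finite (MaximalSpectrum B)] (E : ∀ n : MaximalSpectrum B, Ideal (Localization.AtPrime n.asIdeal))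
    (hE : ∀ n : MaximalSpectrum B, ∀ h ∈ maximalIdeal (Localization.AtPrime n.asIdeal), ∃ k : ℕ, h ^ k ∈ E n)
    (z : ∀ n, Localization.AtPrime n.asIdeal ⧸ E n) :
    ∃ p : B, ∀ n, Ideal.Quotient.mk (E n) (algebraMap B (Localization.AtPrime n.asIdeal) p) = z n := by
  let K : MaximalSpectrum B → Ideal B := fun n ↦ (E n).comap (algebraMap B _)
  have hK : ∀ (n : MaximalSpectrum B), ∀ h ∈ n.asIdeal, ∃ k : ℕ, h ^ k ∈ K n := fun n h hh ↦ by
    obtain ⟨k, hk⟩ := hE n _ ((IsLocalization.AtPrime.to_map_mem_maximal_iff _ n.asIdeal h).mpr hh)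
    exact ⟨k, by rw [Ideal.mem_comap, map_pow]; exact hk⟩
  have hlocal : ∀ n, ∃ p : B, Ideal.Quotient.mk (E n) (algebraMap B _ p) = z n := fun n ↦ by
    obtain ⟨x, hx⟩ := Ideal.Quotient.mk_surjective (z n)
    obtain ⟨x, s, rfl⟩ := IsLocalization.exists_mk'_eq n.asIdeal.primeCompl x
    have := coprime_comap (K := K n) n.asIdeal (hK n) (Ideal.span {(s : B)})
      fun h ↦ s.2 (h (Ideal.mem_span_singleton_self _))
    obtain ⟨k, hk, m, hm, hkm⟩ := Submodule.mem_sup.mp ((Ideal.eq_top_iff_one _).mp this)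
    obtain ⟨c, rfl⟩ := Ideal.mem_span_singleton'.mp hm
    refine ⟨x * c, ?_⟩
    rw [← hx, Ideal.Quotient.eq, map_mul, ← IsLocalization.mk'_spec (Localization.AtPrime n.asIdeal) x s]
    have hk1 : algebraMap B (Localization.AtPrime n.asIdeal) k +
        algebraMap B _ c * algebraMap B _ (s : B) = 1 := by rw [← map_mul, ← map_add, hkm, map_one]
    have : IsLocalization.mk' (Localization.AtPrime n.asIdeal) x s * algebraMap B _ (s : B) * algebraMap B _ c -
        IsLocalization.mk' (Localization.AtPrime n.asIdeal) x s =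
        -IsLocalization.mk' (Localization.AtPrime n.asIdeal) x s * algebraMap B _ k := by
      linear_combination IsLocalization.mk' (Localization.AtPrime n.asIdeal) x s * hk1
    rw [IsLocalization.mk'_spec] at this ⊢
    rw [this]
    exact Ideal.mul_mem_left _ _ hk
  have hpair : Pairwise (Function.onFun IsCoprime K) := fun n n' hne ↦ by
    rw [Function.onFun, Ideal.isCoprime_iff_sup_eq]
    refine coprime_comap n.asIdeal (hK n) (K n') fun hle ↦ ?_
    have hmm : n'.asIdeal ≤ n.asIdeal := fun h hh ↦ by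
      obtain ⟨k, hk⟩ := hK n' h hh
      exact n.isMaximal.isPrime.mem_of_pow_mem k (hle hk)
    exact hne (MaximalSpectrum.ext (n'.isMaximal.eq_of_le n.isMaximal.ne_top hmm).symm)
  choose p hp using hlocal
  obtain ⟨p', hp'⟩ := Ideal.quotientInfToPiQuotient_surj hpair (fun n ↦ Ideal.Quotient.mk (K n) (p n))
  obtain ⟨p'', rfl⟩ := Ideal.Quotient.mk_surjective p'
  refine ⟨p'', fun n ↦ ?_⟩
  have h1 : p'' - p n ∈ K n := Ideal.Quotient.eq.mp (congrFun hp' n)
  rw [← hp n, Ideal.Quotient.eq, ← map_sub]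
  exact h1

end CRT

section Lattice

variable {A : Type u} [CommRing A] {ι : Type u} [Fintype ι] (P : ι → Ideal A) [∀ i, (P i).IsPrime]
  (B : ι → Type u) [∀ i, CommRing (B i)] [∀ i, Algebra A (B i)] [∀ i, Algebra (Localization.AtPrime (P i)) (B i)]
  [∀ i, IsScalarTower A (Localization.AtPrime (P i)) (B i)]

/-- one lattice in A seen in all the extensions at once -/
theorem exists_lattice (t : A) (htB : ∀ i, algebraMap A (B i) t ∈ nonZeroDivisors (B i))
    (hty : ∀ i (y : B i), ∃ z : Localization.AtPrime (P i),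
      algebraMap (Localization.AtPrime (P i)) (B i) z = algebraMap A (B i) t * y)
    (hsep : ∀ i j, j ≠ i → ∃ k ∉ P i, k ∈ (Ideal.span {algebraMap A (B j) t}).comap (algebraMap A (B j))) :
    ∃ (I : Ideal A) (f : ∀ i, I →ₗ[A] B i),
      (∀ i (x : I), algebraMap A (B i) t * f i x = algebraMap A (B i) x.1) ∧
      ∀ i (p : B i), ∃ s ∉ P i, ∃ x : I, f i x = s • p := by
  classical
  let I : Ideal A := ⨅ i, (Ideal.span {algebraMap A (B i) t}).comap (algebraMap A (B i))
  have hIy : ∀ (i : ι) (x : I), ∃ y : B i, algebraMap A (B i) t * y = algebraMap A (B i) x.1 := fun i x ↦ by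
    obtain ⟨y, hy⟩ := Ideal.mem_span_singleton'.mp (Ideal.mem_iInf.mp x.2 i)
    exact ⟨y, by rw [mul_comm, hy]⟩
  choose y hy using hIy
  have hcanc : ∀ (i : ι) {p p' : B i}, algebraMap A (B i) t * p = algebraMap A (B i) t * p' → p = p' :=
    fun i _ _ h ↦ (mul_cancel_left_mem_nonZeroDivisors (htB i)).mp h
  let f : ∀ i, I →ₗ[A] B i := fun i ↦
    { toFun := y i
      map_add' := fun x x' ↦ hcanc i (by rw [mul_add, hy, hy, hy, Submodule.coe_add, map_add])
      map_smul' := fun c x ↦ hcanc i (by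
        rw [RingHom.id_apply, Algebra.smul_def, mul_left_comm, hy, hy, ← map_mul]; rfl) }
  refine ⟨I, f, hy, fun i p ↦ ?_⟩
  obtain ⟨z, hz⟩ := hty i p
  obtain ⟨x, s₀, rfl⟩ := IsLocalization.exists_mk'_eq (P i).primeCompl z
  have hK : ∀ j, ∃ k, k ∉ P i ∧ (j ≠ i → k ∈ (Ideal.span {algebraMap A (B j) t}).comap (algebraMap A (B j))) :=
    fun j ↦ by
      by_cases hne : j = i
      · exact ⟨1, Ideal.IsPrime.one_notMem inferInstance, fun h ↦ absurd hne h⟩
      · obtain ⟨k, hk, hk'⟩ := hsep i j hne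
        exact ⟨k, hk, fun _ ↦ hk'⟩
  choose k hk hk' using hK
  have hkey : algebraMap A (B i) ((∏ j, k j) * x) =
      algebraMap A (B i) t * (algebraMap A (B i) ((∏ j, k j) * s₀) * p) := by
    rw [map_mul, map_mul, IsScalarTower.algebraMap_apply A (Localization.AtPrime (P i)) (B i) x,
      ← IsLocalization.mk'_spec (Localization.AtPrime (P i)) x s₀, map_mul, hz,
      ← IsScalarTower.algebraMap_apply]
    ring
  refine ⟨(∏ j, k j) * s₀, fun hm ↦ ?_, ⟨(∏ j, k j) * x, Ideal.mem_iInf.mpr fun j ↦ ?_⟩, hcanc i ?_⟩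
  · rcases Ideal.IsPrime.mem_or_mem inferInstance hm with h | h
    · obtain ⟨j, -, h'⟩ := Ideal.IsPrime.prod_mem_iff.mp h
      exact hk j h'
    · exact s₀.2 h
  · by_cases hne : j = i
    · subst hne
      rw [Ideal.mem_comap, Ideal.mem_span_singleton']
      exact ⟨_, (mul_comm _ _).trans hkey.symm⟩
    · refine Ideal.mul_mem_right _ _ ?_
      rw [Finset.prod_eq_mul_prod_sdiff_singleton_of_mem (Finset.mem_univ j) k]
      exact Ideal.mul_mem_right _ _ (hk' j hne)
  · change algebraMap A (B i) t * y i _ = _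
    rw [hy, Algebra.smul_def]
    exact hkey

end Lattice

section Lift

variable {A : Type u} [CommRing A] {ι : Type u} {σ : ι → Type u} [∀ i, Fintype (σ i)] [Fintype ι]
  {Q : (Σ i, σ i) → Type u} [∀ j, AddCommGroup (Q j)] [∀ j, Module A (Q j)]
  {N : Type u} [AddCommGroup N] [Module A N]

/-- near one member of the family the lattice fills all the components -/
theorem exists_lift {I : Ideal A} {P : Ideal A} [hP : P.IsPrime] (i₀ : ι) (g : ∀ j, I →ₗ[A] Q j)
    (pr : ∀ n : σ i₀, N →ₗ[A] Q ⟨i₀, n⟩) (f : I →ₗ[A] N) (hg : ∀ n x, g ⟨i₀, n⟩ x = pr n (f x))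
    (hf : ∀ p : N, ∃ s ∉ P, ∃ x : I, f x = s • p) (hcrt : ∀ z : ∀ n, Q ⟨i₀, n⟩, ∃ p, ∀ n, pr n p = z n)
    (hout : ∀ j : (Σ i, σ i), j.1 ≠ i₀ → ∃ h ∉ P, ∀ z : Q j, h • z = 0) (w : ∀ j, Q j) :
    ∃ s ∉ P, ∃ i : I, ∀ j, g j i = s • w j := by
  classical
  have hG : ∀ j : (Σ i, σ i), ∃ h, h ∉ P ∧ (j.1 ≠ i₀ → ∀ z : Q j, h • z = 0) := fun j ↦ by
    by_cases hj : j.1 = i₀
    · exact ⟨1, hP.one_notMem, fun h ↦ absurd hj h⟩
    · obtain ⟨h, hh, hh'⟩ := hout j hj
      exact ⟨h, hh, fun _ ↦ hh'⟩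
  choose G hG0 hG1 using hG
  obtain ⟨p', hp'⟩ := hcrt fun n ↦ w ⟨i₀, n⟩
  obtain ⟨s, hs, i, hi⟩ := hf p'
  refine ⟨(∏ j, G j) * s, fun h ↦ ?_, (∏ j, G j) • i, fun j ↦ ?_⟩
  · rcases hP.mem_or_mem h with h | h
    · obtain ⟨j, -, hj⟩ := Ideal.IsPrime.prod_mem_iff.mp h
      exact hG0 j hj
    · exact hs h
  · rw [map_smul, mul_smul]
    obtain ⟨i', n⟩ := j
    by_cases hj : i' = i₀
    · subst hj
      rw [hg, hi, map_smul, hp']
    · rw [Finset.prod_eq_mul_prod_sdiff_singleton_of_mem (Finset.mem_univ (⟨i', n⟩ : Σ i, σ i)) G,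
        mul_smul, mul_smul, hG1 ⟨i', n⟩ hj, hG1 ⟨i', n⟩ hj]

end Lift

section Compare

variable {A : Type u} [CommRing A] [IsNoetherianRing A] [IsLocalRing A] {c : Type u} [Fintype c]
  {Q : c → Type u} [∀ j, AddCommGroup (Q j)] [∀ j, Module A (Q j)]

/-- the Herbrand quotients of the components of a lattice add up to zero -/
theorem sum_herbrand_eq_zero {I : Ideal A} (g : ∀ j, I →ₗ[A] Q j) {a b : A} (ha : a ∈ nonZeroDivisors A)
    (hb : b ∈ nonZeroDivisors A) (hkill : ∀ j (z : Q j), (a * b) • z = 0)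
    (hfin : ∀ j, CycAlg.FinCoh A (LinearMap.lsmul A (LinearMap.range (g j)) a)
      (LinearMap.lsmul A (LinearMap.range (g j)) b))
    (hker : ∀ p : PrimeSpectrum A, p ≠ closedPoint A → a * b ∈ p.asIdeal → ∀ i : I, (∀ j, g j i = 0) →
      ∃ s ∉ p.asIdeal, ∃ i' : I, s • i = (a * b) • i')
    (hcoker : ∀ p : PrimeSpectrum A, p ≠ closedPoint A → a * b ∈ p.asIdeal → ∀ w : ∀ j, Q j,
      (∀ j, w j ∈ LinearMap.range (g j)) → ∃ s ∉ p.asIdeal, ∃ i : I, ∀ j, g j i = s • w j) :
    ∑ j, CycAlg.herbrand A (LinearMap.lsmul A (LinearMap.range (g j)) a)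
      (LinearMap.lsmul A (LinearMap.range (g j)) b) = 0 := by
  classical
  let W : ∀ j : c, Submodule A (Q j) := fun j ↦ LinearMap.range (g j)
  let abI : Submodule A I := LinearMap.range (LinearMap.lsmul A I (a * b))
  let Φ : (I ⧸ abI) →ₗ[A] ∀ j : c, W j := abI.liftQ (LinearMap.pi fun j ↦ (g j).rangeRestrict) (by
    rintro _ ⟨i, rfl⟩
    rw [LinearMap.mem_ker]
    funext j
    apply Subtype.ext
    change g j ((a * b) • i) = 0
    rw [map_smul, hkill])
  have hΦ : ∀ (i : I) (j : c), ((Φ (Submodule.Quotient.mk i) j : W j) : Q j) = g j i := fun i j ↦ rfl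
  let φ : (I ⧸ abI) →ₗ[A] (I ⧸ abI) := LinearMap.lsmul A (I ⧸ abI) a
  let ψ : (I ⧸ abI) →ₗ[A] (I ⧸ abI) := LinearMap.lsmul A (I ⧸ abI) b
  have habM : ∀ z : I ⧸ abI, (a * b) • z = 0 := fun z ↦ by
    obtain ⟨i, rfl⟩ := Submodule.Quotient.mk_surjective _ z
    exact (Submodule.Quotient.mk_eq_zero _).mpr ⟨i, rfl⟩
  have hper : CycAlg.IsPeriodic φ ψ := by
    constructor <;> refine LinearMap.ext fun z ↦ ?_
    · change a • b • z = 0; rw [smul_smul, habM]
    · change b • a • z = 0; rw [smul_smul, mul_comm, habM]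
  have hper' : CycAlg.IsPeriodic (LinearMap.piMap fun j ↦ LinearMap.lsmul A (W j) a)
      (LinearMap.piMap fun j ↦ LinearMap.lsmul A (W j) b) := by
    constructor <;> refine LinearMap.ext fun z ↦ funext fun j ↦ Subtype.ext ?_
    · change a • b • (z j : Q j) = 0; rw [smul_smul, hkill]
    · change b • a • (z j : Q j) = 0; rw [smul_smul, mul_comm, hkill]
  have hex : ∀ (x x' : A), x ∈ nonZeroDivisors A → x * x' = a * b →
      Subsingleton (CycAlg.perH (LinearMap.lsmul A (I ⧸ abI) x) (LinearMap.lsmul A (I ⧸ abI) x')) :=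
    fun x x' hx hxx ↦ by
      refine Submodule.Quotient.subsingleton_iff.mpr (eq_top_iff.mpr fun z _ ↦ ?_)
      obtain ⟨z, hz⟩ := z
      obtain ⟨i, rfl⟩ := Submodule.Quotient.mk_surjective _ z
      have hz' : Submodule.Quotient.mk (x • i) = (0 : I ⧸ abI) := hz
      obtain ⟨i', hi'⟩ := (Submodule.Quotient.mk_eq_zero _).mp hz'
      refine ⟨Submodule.Quotient.mk i', ?_⟩
      change (Submodule.Quotient.mk (x' • i') : I ⧸ abI) = Submodule.Quotient.mk i
      congr 1
      refine Subtype.ext ((mul_cancel_left_mem_nonZeroDivisors hx).mp ?_)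
      have := congrArg Subtype.val hi'
      simp only [LinearMap.lsmul_apply, SetLike.val_smul, smul_eq_mul] at this
      rw [SetLike.val_smul, smul_eq_mul, ← mul_assoc, hxx, this]
  haveI h0 := hex a b ha rfl
  haveI h1 := hex b a hb (mul_comm b a)
  have e0 : Module.length A (CycAlg.perH φ ψ) = 0 := Module.length_eq_zero
  have e1 : Module.length A (CycAlg.perH ψ φ) = 0 := Module.length_eq_zero
  have hfinM : CycAlg.FinCoh A φ ψ := ⟨by rw [e0]; simp, by rw [e1]; simp⟩
  have hM0 : CycAlg.herbrand A φ ψ = 0 := by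
    unfold CycAlg.herbrand
    rw [e0, e1]
    simp
  obtain ⟨hfinP, hP⟩ := herbrand_pi (fun j ↦ LinearMap.lsmul A (W j) a) (fun j ↦ LinearMap.lsmul A (W j) b) hfin
  haveI : ∀ j : c, Module.Finite A (W j) := fun j ↦
    Module.Finite.of_surjective _ (g j).surjective_rangeRestrict
  have hkl : Module.length A (LinearMap.ker Φ) < ⊤ := by
    refine length_lt_top_of_support_subset fun p hp ↦ ?_
    by_contra hne
    obtain ⟨⟨m, hm⟩, hmp⟩ := Module.mem_support_iff'.mp hp
    by_cases habp : a * b ∈ p.asIdeal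
    · obtain ⟨i, rfl⟩ := Submodule.Quotient.mk_surjective _ m
      obtain ⟨s, hs, i', hi'⟩ := hker p hne habp i fun j ↦ by
        rw [← hΦ i j, LinearMap.mem_ker.mp hm]; rfl
      refine hmp s hs (Subtype.ext ?_)
      change s • (Submodule.Quotient.mk i : I ⧸ abI) = 0
      rw [← Submodule.Quotient.mk_smul, Submodule.Quotient.mk_eq_zero]
      exact ⟨i', hi'.symm⟩
    · exact hmp (a * b) habp (Subtype.ext (habM m))
  have hcl : Module.length A ((∀ j : c, W j) ⧸ LinearMap.range Φ) < ⊤ := by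
    refine length_lt_top_of_support_subset fun p hp ↦ ?_
    by_contra hne
    obtain ⟨m, hmp⟩ := Module.mem_support_iff'.mp hp
    obtain ⟨w, rfl⟩ := Submodule.Quotient.mk_surjective _ m
    by_cases habp : a * b ∈ p.asIdeal
    · obtain ⟨s, hs, i, hi⟩ := hcoker p hne habp (fun j ↦ (w j : Q j)) fun j ↦ (w j).2
      refine hmp s hs ?_
      rw [← Submodule.Quotient.mk_smul, Submodule.Quotient.mk_eq_zero]
      exact ⟨Submodule.Quotient.mk i, funext fun j ↦ Subtype.ext ((hΦ i j).trans (hi j))⟩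
    · refine hmp (a * b) habp ?_
      rw [← Submodule.Quotient.mk_smul, Submodule.Quotient.mk_eq_zero,
        show (a * b) • w = 0 from funext fun j ↦ Subtype.ext (hkill j _)]
      exact zero_mem _
  have hsum := herbrand_eq_of_finite φ ψ _ _ hper hper' Φ
    (LinearMap.ext fun z ↦ (map_smul Φ a z).symm) (LinearMap.ext fun z ↦ (map_smul Φ b z).symm) hfinM hfinP hkl hcl
  rw [hM0, hP] at hsum
  exact hsum.symm

end Compare

end Groth.Agent.CycTameLib
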