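import Mathlib
import Groth.Agent.CycTameLib.Component
import Groth.Agent.CycTameLib.Compositum
import Groth.Agent.CycTameLib.Value
import Groth.Agent.CycTameLib.KeyGlobal

/-!
# Tame data of a localization, seen over the base ring
-/

set_option autoImplicit false

universe u

open IsLocalRing Groth.Agent.CycAlgLib

namespace Groth.Agent.CycTameLib

variable {A : Type u} [CommRing A]

noncomputable instance instAlgebraData {P : Ideal A} [P.IsPrime] {x y : Localization.AtPrime P}
    (D : CycAlg.TameData (Localization.AtPrime P) x y) : Algebra A D.B :=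
  ((algebraMap (Localization.AtPrime P) D.B).comp (algebraMap A (Localization.AtPrime P))).toAlgebra

instance instTowerData {P : Ideal A} [P.IsPrime] {x y : Localization.AtPrime P}
    (D : CycAlg.TameData (Localization.AtPrime P) x y) : IsScalarTower A (Localization.AtPrime P) D.B :=
  IsScalarTower.of_algebraMap_eq fun _ ↦ rfl

variable {P : Ideal A} [P.IsPrime] {a b : A}
  (D : CycAlg.TameData (Localization.AtPrime P) (algebraMap A (Localization.AtPrime P) a)
    (algebraMap A (Localization.AtPrime P) b))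

theorem data_tower (n : MaximalSpectrum D.B) :
    IsScalarTower A (Localization.AtPrime P) (Localization.AtPrime n.asIdeal) :=
  IsScalarTower.of_algebraMap_eq fun c ↦ by
    rw [IsScalarTower.algebraMap_apply A D.B (Localization.AtPrime n.asIdeal),
      IsScalarTower.algebraMap_apply A (Localization.AtPrime P) D.B,
      ← IsScalarTower.algebraMap_apply (Localization.AtPrime P) D.B (Localization.AtPrime n.asIdeal)]

theorem data_fac (n : MaximalSpectrum D.B) :
    algebraMap A (Localization.AtPrime n.asIdeal) a = (D.u₁ n : Localization.AtPrime n.asIdeal) * D.π n ^ D.e₁ n ∧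
      algebraMap A (Localization.AtPrime n.asIdeal) b = (D.u₂ n : Localization.AtPrime n.asIdeal) * D.π n ^ D.e₂ n := by
  haveI := data_tower D n
  exact ⟨(IsScalarTower.algebraMap_apply A (Localization.AtPrime P) _ a).trans (D.fac₁ n),
    (IsScalarTower.algebraMap_apply A (Localization.AtPrime P) _ b).trans (D.fac₂ n)⟩

theorem data_mem_nzd : algebraMap A D.B (a * b) ∈ nonZeroDivisors D.B :=
  mem_nonZeroDivisors_of_local _ fun n ↦ by
    rw [← IsScalarTower.algebraMap_apply, map_mul, (data_fac D n).1, (data_fac D n).2]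
    exact mul_mem (mul_mem (D.u₁ n).isUnit.mem_nonZeroDivisors (pow_mem (D.π_mem n) _))
      (mul_mem (D.u₂ n).isUnit.mem_nonZeroDivisors (pow_mem (D.π_mem n) _))

/-- the ideal cutting out the component at n -/
noncomputable abbrev dataIdeal (n : MaximalSpectrum D.B) : Ideal (Localization.AtPrime n.asIdeal) :=
  Ideal.span {D.π n ^ (D.e₁ n + D.e₂ n)}

theorem dataIdeal_eq (n : MaximalSpectrum D.B) :
    dataIdeal D n = Ideal.map (algebraMap D.B (Localization.AtPrime n.asIdeal))
      (Ideal.span {algebraMap A D.B (a * b)}) := by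
  rw [Ideal.map_span, Set.image_singleton, ← IsScalarTower.algebraMap_apply, map_mul, (data_fac D n).1,
    (data_fac D n).2, dataIdeal,
    show (D.u₁ n : Localization.AtPrime n.asIdeal) * D.π n ^ D.e₁ n * ((D.u₂ n : Localization.AtPrime n.asIdeal) *
      D.π n ^ D.e₂ n) = ((D.u₁ n * D.u₂ n : (Localization.AtPrime n.asIdeal)ˣ) : Localization.AtPrime n.asIdeal) *
        D.π n ^ (D.e₁ n + D.e₂ n) by rw [Units.val_mul, pow_add]; ring,
    Ideal.span_singleton_mul_left_unit (D.u₁ n * D.u₂ n).isUnit]

/-- the component at n -/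
abbrev DataMod (n : MaximalSpectrum D.B) : Type u := Localization.AtPrime n.asIdeal ⧸ dataIdeal D n

/-- the projection to the component at n -/
noncomputable def dataProj (n : MaximalSpectrum D.B) : D.B →ₗ[A] DataMod D n :=
  ((Ideal.Quotient.mkₐ A _).comp (IsScalarTower.toAlgHom A D.B (Localization.AtPrime n.asIdeal))).toLinearMap

theorem dataProj_apply (n : MaximalSpectrum D.B) (p : D.B) :
    dataProj D n p = Ideal.Quotient.mk (dataIdeal D n) (algebraMap D.B (Localization.AtPrime n.asIdeal) p) := rfl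

theorem data_ab_smul (n : MaximalSpectrum D.B) (z : DataMod D n) : (a * b) • z = 0 := by
  obtain ⟨x, rfl⟩ := Ideal.Quotient.mk_surjective z
  change Ideal.Quotient.mk _ ((a * b) • x) = 0
  rw [Ideal.Quotient.eq_zero_iff_mem, Algebra.smul_def, dataIdeal_eq, Ideal.map_span, Set.image_singleton,
    ← IsScalarTower.algebraMap_apply]
  exact Ideal.mul_mem_right _ _ (Ideal.mem_span_singleton_self _)

variable [IsNoetherianRing (Localization.AtPrime P)] [Ring.KrullDimLE 1 (Localization.AtPrime P)]

include D in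
theorem data_finite : Finite (MaximalSpectrum D.B) :=
  haveI := D.isFinExt.2.1
  (finite_maximalSpectrum (A := Localization.AtPrime P)).1

theorem data_kill (n : MaximalSpectrum D.B) (h : Localization.AtPrime n.asIdeal)
    (hh : h ∈ maximalIdeal (Localization.AtPrime n.asIdeal)) : ∃ k : ℕ, h ^ k ∈ dataIdeal D n := by
  haveI := D.isFinExt.2.1
  haveI : IsNoetherianRing D.B := IsNoetherianRing.of_finite (Localization.AtPrime P) D.B
  haveI : Ring.KrullDimLE 1 (Localization.AtPrime n.asIdeal) :=
    krullDimLE_one_localization (A := Localization.AtPrime P) n.asIdeal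
  haveI : IsNoetherianRing (Localization.AtPrime n.asIdeal) :=
    IsLocalization.isNoetherianRing n.asIdeal.primeCompl _ inferInstance
  obtain ⟨k, hk⟩ := exists_pow_mem (D.π_mem n) (D.e₁ n + D.e₂ n)
  exact ⟨k, hk (Ideal.pow_mem_pow hh k)⟩

theorem data_mem_kill (n : MaximalSpectrum D.B) {h : A} (hh : h ∈ P) :
    ∃ k : ℕ, ∀ z : DataMod D n, h ^ k • z = 0 := by
  haveI := data_tower D n
  have hhm : algebraMap A (Localization.AtPrime n.asIdeal) h ∈ maximalIdeal _ := by
    rw [IsScalarTower.algebraMap_apply A (Localization.AtPrime P) (Localization.AtPrime n.asIdeal) h]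
    haveI := D.isLocalHom n
    intro hu
    exact (IsLocalization.AtPrime.to_map_mem_maximal_iff (Localization.AtPrime P) P h).mpr hh
      (IsUnit.of_map _ _ hu)
  obtain ⟨k, hk⟩ := data_kill D n _ hhm
  refine ⟨k, fun z ↦ ?_⟩
  obtain ⟨x, rfl⟩ := Ideal.Quotient.mk_surjective z
  change Ideal.Quotient.mk _ ((h ^ k) • x) = 0
  rw [Ideal.Quotient.eq_zero_iff_mem, Algebra.smul_def, map_pow]
  exact Ideal.mul_mem_right _ _ hk

theorem data_kill_outside (n : MaximalSpectrum D.B) {P' : Ideal A} [P'.IsPrime] (hne : ¬ P ≤ P') :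
    ∃ h : A, h ∉ P' ∧ ∀ z : DataMod D n, h • z = 0 := by
  obtain ⟨h, hh, hhq⟩ := SetLike.not_le_iff_exists.mp hne
  obtain ⟨k, hk⟩ := data_mem_kill D n hh
  exact ⟨h ^ k, fun hm ↦ hhq (Ideal.IsPrime.mem_of_pow_mem inferInstance k hm), hk⟩

theorem data_crt (z : ∀ n, DataMod D n) : ∃ p : D.B, ∀ n, dataProj D n p = z n :=
  haveI := data_finite D
  exists_crt (dataIdeal D) (fun n h hh ↦ data_kill D n h hh) z

theorem data_mem_of_local {p : D.B} (h : ∀ n, dataProj D n p = 0) :
    p ∈ Ideal.span {algebraMap A D.B (a * b)} := by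
  refine Ideal.mem_of_localization_maximal fun M hM ↦ ?_
  have h1 := h ⟨M, hM⟩
  rw [dataProj_apply, Ideal.Quotient.eq_zero_iff_mem, dataIdeal_eq] at h1
  exact h1

theorem data_exists_N (hab : a * b ∈ P) : ∃ N : ℕ, ∀ M, N ≤ M → ∀ y : D.B, ∃ z : Localization.AtPrime P,
    algebraMap (Localization.AtPrime P) D.B z = algebraMap A D.B ((a * b) ^ M) * y := by
  obtain ⟨N, hN⟩ := D.isFinExt.2.2
  refine ⟨N, fun M hM y ↦ ?_⟩
  have hm : algebraMap A (Localization.AtPrime P) ((a * b) ^ M) ∈ maximalIdeal (Localization.AtPrime P) ^ N := by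
    rw [map_pow]
    refine Ideal.pow_le_pow_right hM (Ideal.pow_mem_pow ?_ _)
    exact (IsLocalization.AtPrime.to_map_mem_maximal_iff _ P (a * b)).mpr hab
  obtain ⟨z, hz⟩ := hN _ hm y
  exact ⟨z, by rw [hz, Algebra.smul_def, ← IsScalarTower.algebraMap_apply]⟩

theorem data_component [IsNoetherianRing A] [IsLocalRing A] (hP : ringKrullDim (A ⧸ P) = 1)
    (n : MaximalSpectrum D.B) (W : Submodule A (DataMod D n)) (hW : W.FG)
    (hgen : ∀ z : DataMod D n, ∃ s ∉ P, s • z ∈ W) :
    CycAlg.FinCoh A (LinearMap.lsmul A W a) (LinearMap.lsmul A W b) ∧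
      CycAlg.herbrand A (LinearMap.lsmul A W a) (LinearMap.lsmul A W b) =
        -CycAlg.ordFrac (A ⧸ P) P.ResidueField (D.localFactor n) := by
  haveI := D.isFinExt.2.1
  haveI : IsNoetherianRing D.B := IsNoetherianRing.of_finite (Localization.AtPrime P) D.B
  haveI : Ring.KrullDimLE 1 (Localization.AtPrime n.asIdeal) :=
    krullDimLE_one_localization (A := Localization.AtPrime P) n.asIdeal
  haveI : IsNoetherianRing (Localization.AtPrime n.asIdeal) :=
    IsLocalization.isNoetherianRing n.asIdeal.primeCompl _ inferInstance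
  haveI := D.isLocalHom n
  haveI : Module.Finite (ResidueField (Localization.AtPrime P)) (ResidueField (Localization.AtPrime n.asIdeal)) :=
    finite_residue n
  haveI := data_tower D n
  obtain ⟨h1, h2⟩ := component (P := P) (S := Localization.AtPrime n.asIdeal) hP
    (D.π_mem n) (D.u₁ n) (D.u₂ n) (D.e₁ n) (D.e₂ n) a b (data_fac D n).1 (data_fac D n).2 W hW hgen
  refine ⟨h1, h2.trans ?_⟩
  rw [localFactor_eq]

theorem data_component_range [IsNoetherianRing A] [IsLocalRing A] (hP : ringKrullDim (A ⧸ P) = 1)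
    (n : MaximalSpectrum D.B) {I : Ideal A} (f : I →ₗ[A] D.B) (hf : ∀ p : D.B, ∃ s ∉ P, ∃ x : I, f x = s • p) :
    CycAlg.FinCoh A (LinearMap.lsmul A (LinearMap.range (dataProj D n ∘ₗ f)) a)
      (LinearMap.lsmul A (LinearMap.range (dataProj D n ∘ₗ f)) b) ∧
      CycAlg.herbrand A (LinearMap.lsmul A (LinearMap.range (dataProj D n ∘ₗ f)) a)
        (LinearMap.lsmul A (LinearMap.range (dataProj D n ∘ₗ f)) b) =
        -CycAlg.ordFrac (A ⧸ P) P.ResidueField (D.localFactor n) := by
  classical
  have hfg : (LinearMap.range (dataProj D n ∘ₗ f)).FG := by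
    rw [LinearMap.range_eq_map]
    exact Submodule.FG.map _ Module.Finite.fg_top
  refine data_component D hP n _ hfg fun z ↦ ?_
  obtain ⟨p, hp⟩ := data_crt D (Function.update 0 n z)
  obtain ⟨s, hs, i, hi⟩ := hf p
  refine ⟨s, hs, i, ?_⟩
  have := hp n
  rw [Function.update_self] at this
  rw [LinearMap.comp_apply, hi, map_smul, this]

theorem data_localFactor_ne_zero (n : MaximalSpectrum D.B) : D.localFactor n ≠ 0 := by
  haveI := D.isFinExt.2.1
  haveI := D.isLocalHom n
  haveI : Module.Finite (ResidueField (Localization.AtPrime P)) (ResidueField (Localization.AtPrime n.asIdeal)) :=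
    finite_residue n
  rw [localFactor_eq]
  exact Algebra.norm_ne_zero_iff.mpr (pow_ne_zero _ (base_ne_zero _ _ _ _))

end Groth.Agent.CycTameLib
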