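import Mathlib
import Groth.Agent.CycTameLib.KeyData
import Groth.Agent.CycTameLib.KeyGlobal
import Groth.Agent.CycTameLib.Laws

/-!
# The key lemma: the orders of the tame symbols along height one primes sum to zero
-/

set_option autoImplicit false

universe u

open IsLocalRing Groth.Agent.CycAlgLib

namespace Groth.Agent.CycTameLib

variable {A : Type u} [CommRing A] [IsNoetherianRing A] [IsLocalRing A]

theorem height_maximalIdeal_two (hA : ringKrullDim A = 2) : (maximalIdeal A).height = 2 :=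
  WithBot.coe_injective (by rw [IsLocalRing.maximalIdeal_height_eq_ringKrullDim, hA]; rfl)

theorem height_lt_two (hA : ringKrullDim A = 2) {q : Ideal A} [q.IsPrime] (hne : q ≠ maximalIdeal A) :
    q.height < 2 :=
  height_maximalIdeal_two hA ▸ Ideal.height_strict_mono_of_isPrime
    (lt_of_le_of_ne (IsLocalRing.le_maximalIdeal (‹q.IsPrime›.ne_top)) hne)

theorem height_eq_one (hA : ringKrullDim A = 2) {c : A} (hc : c ∈ nonZeroDivisors A) {q : PrimeSpectrum A}
    (hq : c ∈ q.asIdeal) (hne : q ≠ closedPoint A) : q.asIdeal.height = 1 := by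
  have h1 : q.asIdeal.height ≠ 0 := fun h0 ↦ by
    have hmin : q.asIdeal ∈ minimalPrimes A := Ideal.height_eq_zero_iff.mp h0
    exact Set.disjoint_left.mp (Ideal.disjoint_nonZeroDivisors_of_mem_minimalPrimes hmin) hq hc
  have h2 := height_lt_two hA (q := q.asIdeal) fun e ↦ hne (PrimeSpectrum.ext e)
  exact le_antisymm (Order.le_of_lt_succ h2) (Order.one_le_iff_pos.mpr (pos_iff_ne_zero.mpr h1))

theorem dim_quotient_eq_one (hA : ringKrullDim A = 2) {q : Ideal A} [q.IsPrime] (hq : q.height = 1) :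
    ringKrullDim (A ⧸ q) = 1 := by
  have hne : q ≠ maximalIdeal A := fun e ↦ by
    rw [e, height_maximalIdeal_two hA] at hq
    exact absurd hq (by decide)
  refine le_antisymm ?_ ?_
  · rw [ringKrullDim_quotient, Order.krullDim_le_one_iff]
    rintro ⟨x, hx⟩
    have hqx : q ≤ x.asIdeal := hx
    by_cases hxq : x.asIdeal = q
    · refine Or.inl fun y _ ↦ ?_
      change x.asIdeal ≤ y.1.asIdeal
      rw [hxq]
      exact y.2
    · refine Or.inr fun y _ ↦ ?_
      change y.1.asIdeal ≤ x.asIdeal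
      have hxm : x.asIdeal = maximalIdeal A := by
        by_contra hxm
        have h1 := Ideal.height_strict_mono_of_isPrime (lt_of_le_of_ne hqx (Ne.symm hxq))
        have h2 := height_lt_two hA (q := x.asIdeal) hxm
        rw [hq] at h1
        exact absurd (Order.le_of_lt_succ h2) (not_le.mpr h1)
      rw [hxm]
      exact IsLocalRing.le_maximalIdeal y.1.2.ne_top
  · by_contra hlt
    have h0 : ringKrullDim (A ⧸ q) ≤ 0 := Order.le_of_lt_succ (lt_of_not_ge hlt)
    haveI : Ring.KrullDimLE 0 (A ⧸ q) := Ring.krullDimLE_iff.mpr h0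
    have hf : IsField (A ⧸ q) := Ring.KrullDimLE.isField_of_isDomain
    exact hne (IsLocalRing.eq_maximalIdeal ((Ideal.Quotient.maximal_ideal_iff_isField_quotient q).mpr hf))

theorem dim_localization_eq_one {q : Ideal A} [q.IsPrime] (hq : q.height = 1) :
    ringKrullDim (Localization.AtPrime q) = 1 := by
  rw [IsLocalization.AtPrime.ringKrullDim_eq_height q, hq]; rfl

omit [IsNoetherianRing A] [IsLocalRing A] in
theorem algebraMap_mem_nzd (q : Ideal A) [q.IsPrime] {c : A} (hc : c ∈ nonZeroDivisors A) :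
    algebraMap A (Localization.AtPrime q) c ∈ nonZeroDivisors _ := by
  rw [mem_nonZeroDivisors_iff_right]
  intro z hz
  obtain ⟨w, s, rfl⟩ := IsLocalization.exists_mk'_eq q.primeCompl z
  rw [IsLocalization.mk'_eq_zero_iff]
  have h2 : algebraMap A (Localization.AtPrime q) (w * c) = 0 := by
    rw [map_mul, ← IsLocalization.mk'_spec' (Localization.AtPrime q) w s, mul_assoc, hz, mul_zero]
  obtain ⟨t, ht⟩ := (IsLocalization.map_eq_zero_iff q.primeCompl _ _).mp h2
  exact ⟨t, (mem_nonZeroDivisors_iff_right.mp hc) _ (by rw [mul_assoc]; exact ht)⟩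

theorem finite_height_one (hA : ringKrullDim A = 2) {c : A} (hc : c ∈ nonZeroDivisors A) :
    {q : PrimeSpectrum A | c ∈ q.asIdeal ∧ q ≠ closedPoint A}.Finite := by
  refine ((Ideal.span {c}).finite_minimalPrimes_of_isNoetherianRing.preimage
    (f := PrimeSpectrum.asIdeal) fun x _ y _ h ↦ PrimeSpectrum.ext h).subset ?_
  rintro q ⟨hq, hne⟩
  refine ⟨⟨q.2, (Ideal.span_singleton_le_iff_mem _).mpr hq⟩, fun p ⟨hp, hpc⟩ hpq ↦ ?_⟩
  by_contra hle
  haveI := hp
  have hpne : (⟨p, hp⟩ : PrimeSpectrum A) ≠ closedPoint A := fun e ↦ by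
    have : p = maximalIdeal A := congrArg PrimeSpectrum.asIdeal e
    exact hle (this ▸ IsLocalRing.le_maximalIdeal q.2.ne_top)
  have h1 : p.height = 1 := height_eq_one hA hc (q := ⟨p, hp⟩) (hpc (Ideal.mem_span_singleton_self _)) hpne
  have h3 := Ideal.height_strict_mono_of_isPrime (lt_of_le_not_ge hpq hle)
  rw [height_eq_one hA hc hq hne, h1] at h3
  exact lt_irrefl _ h3

/-- the sum over a finite family of distinct height one primes containing ab and all such primes -/
theorem sum_ord_tameSymbol (hA : ringKrullDim A = 2) {a b : A} (ha : a ∈ nonZeroDivisors A)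
    (hb : b ∈ nonZeroDivisors A) (T : Finset (PrimeSpectrum A))
    (hT : ∀ q, q ∈ T ↔ a * b ∈ q.asIdeal ∧ q ≠ closedPoint A) :
    ∑ q : T, CycAlg.ordFrac (A ⧸ q.1.asIdeal) q.1.asIdeal.ResidueField
      (CycAlg.tameSymbol (Localization.AtPrime q.1.asIdeal) (algebraMap A (Localization.AtPrime q.1.asIdeal) a)
        (algebraMap A (Localization.AtPrime q.1.asIdeal) b)) = 0 := by
  classical
  have hab : a * b ∈ nonZeroDivisors A := mul_mem ha hb
  have hTh : ∀ q : T, q.1.asIdeal.height = 1 := fun q ↦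
    height_eq_one hA hab ((hT q.1).mp q.2).1 ((hT q.1).mp q.2).2
  haveI hKD : ∀ q : T, Ring.KrullDimLE 1 (Localization.AtPrime q.1.asIdeal) := fun q ↦
    Ring.krullDimLE_iff.mpr (dim_localization_eq_one (hTh q)).le
  haveI hNo : ∀ q : T, IsNoetherianRing (Localization.AtPrime q.1.asIdeal) := fun q ↦
    IsLocalization.isNoetherianRing q.1.asIdeal.primeCompl _ inferInstance
  have hD : ∀ q : T, Nonempty (CycAlg.TameData (Localization.AtPrime q.1.asIdeal)
      (algebraMap A (Localization.AtPrime q.1.asIdeal) a) (algebraMap A (Localization.AtPrime q.1.asIdeal) b)) :=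
    fun q ↦ nonempty_tameData (dim_localization_eq_one (hTh q)) _ _ (algebraMap_mem_nzd _ ha)
      (algebraMap_mem_nzd _ hb)
  let D := fun q : T ↦ (hD q).some
  choose N hN using fun q : T ↦ data_exists_N (D q) ((hT q.1).mp q.2).1
  let M := Finset.univ.sup N
  have hsep : ∀ q q' : T, q' ≠ q → ∃ h ∈ q'.1.asIdeal, h ∉ q.1.asIdeal := fun q q' hne ↦ by
    by_contra hcon
    push Not at hcon
    have hlt : q'.1.asIdeal < q.1.asIdeal :=
      lt_of_le_of_ne hcon fun e ↦ hne (Subtype.ext (PrimeSpectrum.ext e))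
    have h3 := Ideal.height_strict_mono_of_isPrime hlt
    rw [hTh, hTh] at h3
    exact lt_irrefl _ h3
  have hsep' : ∀ q q' : T, q' ≠ q → ¬ q'.1.asIdeal ≤ q.1.asIdeal := fun q q' hne hle ↦
    (hsep q q' hne).elim fun _ hh ↦ hh.2 (hle hh.1)
  have hother : ∀ q q' : T, q' ≠ q → ∃ k ∉ q.1.asIdeal,
      k ∈ (Ideal.span {algebraMap A (D q').B ((a * b) ^ M)}).comap (algebraMap A (D q').B) := fun q q' hne ↦ by
    obtain ⟨h, hh, hhq⟩ := hsep q q' hne
    obtain ⟨k, hk⟩ := exists_pow_mem (algebraMap_mem_nzd q'.1.asIdeal (pow_mem hab M)) 1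
    refine ⟨h ^ k, fun hm ↦ hhq (Ideal.IsPrime.mem_of_pow_mem inferInstance k hm), ?_⟩
    obtain ⟨z, hz⟩ := Ideal.mem_span_singleton'.mp (hk (Ideal.pow_mem_pow
      ((IsLocalization.AtPrime.to_map_mem_maximal_iff (Localization.AtPrime q'.1.asIdeal) q'.1.asIdeal h).mpr hh) k))
    rw [pow_one] at hz
    rw [Ideal.mem_comap, Ideal.mem_span_singleton']
    refine ⟨algebraMap _ (D q').B z, ?_⟩
    rw [IsScalarTower.algebraMap_apply A (Localization.AtPrime q'.1.asIdeal) (D q').B ((a * b) ^ M), ← map_mul, hz,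
      IsScalarTower.algebraMap_apply A (Localization.AtPrime q'.1.asIdeal) (D q').B (h ^ k), map_pow (algebraMap A _)]
  obtain ⟨I, f, hf, hL⟩ := exists_lattice (fun q : T ↦ q.1.asIdeal) (fun q ↦ (D q).B) ((a * b) ^ M)
    (fun q ↦ by rw [map_pow]; exact pow_mem (data_mem_nzd (D q)) _)
    (fun q y ↦ hN q M (Finset.le_sup (Finset.mem_univ q)) y) hother
  haveI : ∀ q : T, Finite (MaximalSpectrum (D q).B) := fun q ↦ data_finite (D q)
  letI : ∀ q : T, Fintype (MaximalSpectrum (D q).B) := fun q ↦ Fintype.ofFinite _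
  let g : ∀ j : (Σ q : T, MaximalSpectrum (D q).B), I →ₗ[A] DataMod (D j.1) j.2 :=
    fun j ↦ dataProj (D j.1) j.2 ∘ₗ f j.1
  have hcomp : ∀ j, CycAlg.FinCoh A (LinearMap.lsmul A (LinearMap.range (g j)) a)
      (LinearMap.lsmul A (LinearMap.range (g j)) b) ∧
      CycAlg.herbrand A (LinearMap.lsmul A (LinearMap.range (g j)) a) (LinearMap.lsmul A (LinearMap.range (g j)) b) =
        -CycAlg.ordFrac (A ⧸ j.1.1.asIdeal) j.1.1.asIdeal.ResidueField ((D j.1).localFactor j.2) := fun j ↦ by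
    exact data_component_range (D j.1) (dim_quotient_eq_one hA (hTh j.1)) j.2 (f j.1) (hL j.1)
  have hsum := sum_herbrand_eq_zero g ha hb (fun j z ↦ data_ab_smul (D j.1) j.2 z) (fun j ↦ (hcomp j).1) ?_ ?_
  · rw [Finset.sum_congr rfl fun j _ ↦ (hcomp j).2, Finset.sum_neg_distrib, neg_eq_zero, Fintype.sum_sigma] at hsum
    rw [← hsum]
    refine Finset.sum_congr rfl fun q _ ↦ ?_
    rw [tameSymbol_eq_value (algebraMap_mem_nzd _ ha) (algebraMap_mem_nzd _ hb) (D q), CycAlg.TameData.value,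
      finprod_eq_prod_of_fintype, ordFrac_prod (dim_quotient_eq_one hA (hTh q)).le]
    exact fun n _ ↦ data_localFactor_ne_zero (D q) n
  · intro p hne habp i hi
    let q : T := ⟨p, (hT p).mpr ⟨habp, hne⟩⟩
    obtain ⟨p', hp'⟩ := Ideal.mem_span_singleton'.mp (data_mem_of_local (D q) (p := f q i) fun n ↦ hi ⟨q, n⟩)
    obtain ⟨s, hs, i', hi'⟩ := hL q p'
    have hzero : f q (s • i - (a * b) • i') = 0 := by
      rw [map_sub, map_smul, map_smul, hi', ← hp', smul_comm, Algebra.smul_def, Algebra.smul_def, Algebra.smul_def]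
      ring
    have hzero' : algebraMap A (Localization.AtPrime q.1.asIdeal) (s • i - (a * b) • i' : I).1 = 0 := by
      refine (D q).isFinExt.1 ?_
      rw [← IsScalarTower.algebraMap_apply, ← hf, map_zero, hzero, mul_zero]
    obtain ⟨s', hs'⟩ := (IsLocalization.map_eq_zero_iff q.1.asIdeal.primeCompl _ _).mp hzero'
    refine ⟨(s' : A) * s, fun h ↦ ?_, (s' : A) • i', ?_⟩
    · rcases p.2.mem_or_mem h with h | h
      · exact s'.2 h
      · exact hs h
    · have h2 : (s' : A) • (s • i - (a * b) • i') = 0 := Subtype.ext hs'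
      rw [smul_sub, sub_eq_zero] at h2
      rw [mul_smul, h2, smul_comm]
  · intro p hne habp w hw
    let q : T := ⟨p, (hT p).mpr ⟨habp, hne⟩⟩
    exact exists_lift (A := A) (N := (D q).B) q g (fun n ↦ dataProj (D q) n) (f q) (fun _ _ ↦ rfl) (hL q)
      (data_crt (D q)) (fun j hj ↦ data_kill_outside (D j.1) j.2 (hsep' q j.1 hj)) w

/-- the key lemma -/
theorem key_lemma (hA : ringKrullDim A = 2) (a b : A) (ha : a ∈ nonZeroDivisors A) (hb : b ∈ nonZeroDivisors A) :
    ∑ᶠ (q : PrimeSpectrum A) (_ : q.asIdeal.height = 1), CycAlg.ordFrac (A ⧸ q.asIdeal) q.asIdeal.ResidueField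
      (CycAlg.tameSymbol (Localization.AtPrime q.asIdeal) (algebraMap A (Localization.AtPrime q.asIdeal) a)
        (algebraMap A (Localization.AtPrime q.asIdeal) b)) = 0 := by
  classical
  have hab : a * b ∈ nonZeroDivisors A := mul_mem ha hb
  let hfin := finite_height_one hA hab
  have hT : ∀ q, q ∈ hfin.toFinset ↔ a * b ∈ q.asIdeal ∧ q ≠ closedPoint A := fun q ↦ hfin.mem_toFinset
  refine (finsum_cond_eq_sum_of_cond_iff (t := hfin.toFinset) _ fun {q} hq ↦
    ⟨fun hq1 ↦ ?_, fun h ↦ height_eq_one hA hab ((hT q).mp h).1 ((hT q).mp h).2⟩).trans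
    ((Finset.sum_coe_sort hfin.toFinset _).symm.trans (sum_ord_tameSymbol hA ha hb _ hT))
  by_contra hqT
  apply hq
  have hne : q ≠ closedPoint A := fun e ↦ by
    subst e
    rw [show (closedPoint A).asIdeal = maximalIdeal A from rfl, height_maximalIdeal_two hA] at hq1
    exact absurd hq1 (by decide)
  have habq : a * b ∉ q.asIdeal := fun h ↦ hqT ((hT q).mpr ⟨h, hne⟩)
  have hu : ∀ x : A, x ∉ q.asIdeal → IsUnit (algebraMap A (Localization.AtPrime q.asIdeal) x) := fun x hx ↦
    IsLocalization.map_units (Localization.AtPrime q.asIdeal) (⟨x, hx⟩ : q.asIdeal.primeCompl)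
  haveI : Ring.KrullDimLE 1 (Localization.AtPrime q.asIdeal) :=
    Ring.krullDimLE_iff.mpr (dim_localization_eq_one hq1).le
  haveI : IsNoetherianRing (Localization.AtPrime q.asIdeal) :=
    IsLocalization.isNoetherianRing q.asIdeal.primeCompl _ inferInstance
  obtain ⟨u, hu'⟩ := hu a fun h ↦ habq (q.asIdeal.mul_mem_right b h)
  obtain ⟨v, hv'⟩ := hu b fun h ↦ habq (q.asIdeal.mul_mem_left a h)
  have h3 := (laws (dim_localization_eq_one hq1)).2.2.1 u (algebraMap A (Localization.AtPrime q.asIdeal) b)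
    (algebraMap_mem_nzd q.asIdeal hb)
  rw [hu', ← hv'] at h3
  rw [← hv', h3, Ideal.span_singleton_eq_top.mpr v.isUnit, Module.length_eq_zero]
  exact ordFrac_one (dim_quotient_eq_one hA hq1).le

end Groth.Agent.CycTameLib
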